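import Cfsg.Agent.Lib.PSUGraph.Classify
import Cfsg.Agent.Lib.PSLnGraph.Split

/-!
Splitting of the classes of involutory graph automorphisms of `PSU_n(q)` under inner automorphisms.
-/

set_option autoImplicit false
set_option linter.unusedSectionVars false

namespace CfsgLib.PSUGraph

open Matrix CfsgLib.UnitaryTransvection CfsgLib.UnitarySimple
open CfsgLib.PSLnGraph (Rel SimGrp)
open scoped MatrixGroups

variable {F : Type*} [Field F] [Fintype F] {n q : ℕ} (hF : Fintype.card F = q ^ 2)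

/-- The elements of norm one. -/
noncomputable def U1 : Subgroup Fˣ := (PSLn.normUnits (fr hF)).ker

theorem coe_norm (c : Fˣ) : ((PSLn.normUnits (fr hF) c : Fˣ) : F) = c * fr hF (c : F) := by
  rw [PSLn.coe_normUnits, orderOf_fr, Finset.prod_range_succ, Finset.prod_range_one, pow_zero, pow_one,
    RingAut.one_apply]

theorem mem_U1 {u : Fˣ} : u ∈ U1 hF ↔ (u : F) * fr hF (u : F) = 1 := by
  rw [U1, MonoidHom.mem_ker, Units.ext_iff, coe_norm, Units.val_one]

include hF in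
theorem two_le_q : 2 ≤ q := by
  have h := Fintype.one_lt_card (α := F)
  rw [hF] at h
  rcases q with _ | _ | q <;> simp at h ⊢

theorem card_U1 : Nat.card (U1 hF) = q + 1 := by
  have h := PSLn.card_eq_fixedField_pow (fr hF)
  rw [orderOf_fr, hF] at h
  have hc : Nat.card (PSLn.fixedField (fr hF)) = q := (Nat.pow_left_injective two_ne_zero h).symm
  have h1 := (U1 hF).card_mul_index
  rw [show (U1 hF).index = q - 1 by
    rw [U1, Subgroup.index_ker, PSLn.range_normUnits, PSLn.card_fixedUnits, hc], Nat.card_units,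
    Nat.card_eq_fintype_card (α := F), hF] at h1
  obtain ⟨r, rfl⟩ : ∃ r, q = r + 2 := ⟨q - 2, by have := two_le_q hF; omega⟩
  have e : (r + 2) ^ 2 - 1 = (r + 2 + 1) * (r + 2 - 1) := by
    have : (r + 2) ^ 2 = (r + 2 + 1) * (r + 1) + 1 := by ring
    rw [this, Nat.add_sub_cancel, show r + 2 - 1 = r + 1 by omega]
  rw [e] at h1
  exact Nat.eq_of_mul_eq_mul_right (by omega) h1

/-- The conjugation action of the unitary group. -/
noncomputable def ρ : ↥(Cfsg.GU n F q) →* MulAut (Cfsg.PSU n F q) :=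
  (conjP hF).comp (Subgroup.inclusion (GU_le_GS hF))

theorem ρ_range (hn : 0 < n) : Cfsg.inndiagPSU n F q = (ρ hF (n := n)).range := by
  rw [inndiag_eq hF hn]
  apply le_antisymm
  · rintro _ ⟨x, rfl⟩
    obtain ⟨t, y, hy, e⟩ := exists_scal_GU hF hn x.2
    refine ⟨⟨y, hy⟩, ?_⟩
    rw [show x = ⟨scal t, scal_mem hF t⟩ * ⟨y, GU_le_GS hF hy⟩ from Subtype.ext e, map_mul, conjP_scal, one_mul]
    rfl
  · rintro _ ⟨x, rfl⟩
    exact ⟨_, rfl⟩

include hF in
theorem toGL_mem (s : Cfsg.SU n F q) : SpecialLinearGroup.toGL s.1 ∈ Cfsg.GU n F q :=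
  (mem_GU hF _).mpr (su_unit hF s)

theorem ρ_toGL (s : Cfsg.SU n F q) :
    ρ hF ⟨SpecialLinearGroup.toGL s.1, toGL_mem hF s⟩ = MulAut.conj (QuotientGroup.mk s : Cfsg.PSU n F q) := by
  refine MulEquiv.ext fun a => QuotientGroup.induction_on a fun r => ?_
  show conjP hF _ (QuotientGroup.mk r) = _
  rw [conjP_mk, MulAut.conj_apply, ← QuotientGroup.mk_inv, ← QuotientGroup.mk_mul, ← QuotientGroup.mk_mul]
  congr 1

theorem det_norm (x : ↥(Cfsg.GU n F q)) : GeneralLinearGroup.det x.1 ∈ U1 hF := by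
  rw [mem_U1, GeneralLinearGroup.val_det_apply]
  have e := congrArg Matrix.det ((mem_GU hF x.1).mp x.2)
  rw [det_mul, det_transpose, show x.1.1.map (fr hF) = (fr hF).mapMatrix x.1.1 from rfl, ← RingEquiv.map_det,
    det_one] at e
  rw [mul_comm]; exact e

/-- The determinant on the unitary group. -/
noncomputable def dU : ↥(Cfsg.GU n F q) →* ↥(U1 hF) :=
  (GeneralLinearGroup.det.comp (Cfsg.GU n F q).subtype).codRestrict (U1 hF) (det_norm hF)

theorem dU_surj (hn : 0 < n) : Function.Surjective (dU hF (n := n)) := by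
  classical
  rintro ⟨u, hu⟩
  rw [mem_U1] at hu
  let r : Fin n → F := Function.update 1 ⟨0, hn⟩ (u : F)
  have hd : (diagonal r).det = (u : F) := by
    rw [det_diagonal, Finset.prod_update_of_mem (Finset.mem_univ _)]; simp
  let x := GeneralLinearGroup.mkOfDetNeZero (diagonal r) (by rw [hd]; exact u.ne_zero)
  have hx : x ∈ Cfsg.GU n F q := by
    rw [mem_GU hF]
    show ((diagonal r).map (fr hF))ᵀ * diagonal r = 1
    rw [diagonal_map (map_zero _), diagonal_transpose, diagonal_mul_diagonal, ← diagonal_one]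
    congr 1
    funext i
    rcases eq_or_ne i ⟨0, hn⟩ with h | h
    · simp only [r, h, Function.update_self]; rw [mul_comm]; exact hu
    · simp [r, Function.update_of_ne h]
  exact ⟨⟨x, hx⟩, Subtype.ext (Units.ext hd)⟩

/-- The determinants of the centralizing unitary elements. -/
noncomputable def T (g : ↥(GS hF n)) : Subgroup ↥(U1 hF) :=
  ((Subgroup.centralizer {γ hF g}).comap (ρ hF)).map (dU hF)

/-- The number of classes under inner automorphisms. -/
theorem splitCount (hn : 3 ≤ n) (h32 : ¬ (n = 3 ∧ q = 2)) (g : ↥(GS hF n)) :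
    Cfsg.splitClassCount (Cfsg.inndiagPSU n F q) (Cfsg.Inn (Cfsg.PSU n F q)) (γ hF g) =
      ((powMonoidHom n : ↥(U1 hF) →* ↥(U1 hF)).range ⊔ T hF g).index := by
  have hI : Cfsg.Inn (Cfsg.PSU n F q) ≤ Cfsg.inndiagPSU n F q := by
    rintro _ ⟨x, rfl⟩
    obtain ⟨s, rfl⟩ := QuotientGroup.mk_surjective x
    rw [ρ_range hF (by omega)]
    exact ⟨_, ρ_toGL hF s⟩
  rw [PSLn.splitClassCount_eq _ _ hI, ρ_range hF (by omega), ← Subgroup.index_comap]
  set L := (Cfsg.Inn (Cfsg.PSU n F q) ⊔ (ρ hF (n := n)).range ⊓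
    Subgroup.centralizer {γ hF g}).comap (ρ hF) with hL
  have hdet := dU_surj hF (n := n) (by omega)
  have hker : (dU hF (n := n)).ker ≤ L := by
    intro x hx
    have hd : x.1.1.det = 1 := congrArg Units.val (congrArg Subtype.val (MonoidHom.mem_ker.mp hx))
    let s : Cfsg.SU n F q := ⟨⟨x.1.1, hd⟩, fun u v => x.2 u v⟩
    have e : x = ⟨SpecialLinearGroup.toGL s.1, toGL_mem hF s⟩ := Subtype.ext (Units.ext rfl)
    rw [hL, Subgroup.mem_comap, e, ρ_toGL]
    exact Subgroup.mem_sup_left ⟨_, rfl⟩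
  rw [← Subgroup.index_map_eq L hdet hker]
  congr 1
  apply le_antisymm
  · rintro _ ⟨x, hx, rfl⟩
    obtain ⟨i, ⟨a, rfl⟩, c, hc, e⟩ := Subgroup.mem_sup_of_normal_left.mp hx
    obtain ⟨⟨h, rfl⟩, hcs⟩ := Subgroup.mem_inf.mp hc
    obtain ⟨s, rfl⟩ := QuotientGroup.mk_surjective a
    rw [← ρ_toGL hF, ← map_mul] at e
    obtain ⟨u, hu⟩ := (conjP_eq_iff hF hn h32 _ _).mp (show conjP hF _ = conjP hF _ from e.symm)
    change x.1.1 = (u : F) • ((mat s) * h.1.1) at hu
    have hN : u ∈ U1 hF := by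
      have e1 := (mem_GU hF x.1).mp x.2
      have e2 : ((mat s * h.1.1).map (fr hF))ᵀ * (mat s * h.1.1) = 1 := by
        rw [Matrix.map_mul, transpose_mul, Matrix.mul_assoc, ← Matrix.mul_assoc ((mat s).map _)ᵀ, su_unit hF,
          Matrix.one_mul, (mem_GU hF h.1).mp h.2]
      rw [hu, map_smul_fr, transpose_smul, Matrix.smul_mul, Matrix.mul_smul, smul_smul, e2] at e1
      have := congrFun (congrFun e1 ⟨0, by omega⟩) ⟨0, by omega⟩
      rw [mem_U1, mul_comm]
      simpa using this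
    have hd : dU hF x = (⟨u, hN⟩ : U1 hF) ^ n * dU hF h := Subtype.ext (Units.ext (by
      show x.1.1.det = ((u ^ n * GeneralLinearGroup.det h.1 : Fˣ) : F)
      rw [hu, det_smul, Fintype.card_fin, det_mul, show (mat s).det = 1 from s.1.2, one_mul, Units.val_mul,
        Units.val_pow_eq_pow_val, GeneralLinearGroup.val_det_apply]))
    rw [hd]
    exact mul_mem (Subgroup.mem_sup_left ⟨_, rfl⟩) (Subgroup.mem_sup_right ⟨h, hcs, rfl⟩)
  · refine sup_le ?_ ?_
    · rintro _ ⟨⟨u, hu⟩, rfl⟩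
      have hm : scal (n := n) u ∈ Cfsg.GU n F q := by
        rw [mem_GU hF, scal_val, map_smul_fr, Matrix.map_one _ (map_zero _) (map_one _), transpose_smul,
          transpose_one, Matrix.smul_mul, Matrix.one_mul, smul_smul, mul_comm, (mem_U1 hF).mp hu, one_smul]
      refine ⟨⟨scal u, hm⟩, ?_, Subtype.ext (Units.ext ?_)⟩
      · rw [SetLike.mem_coe, hL, Subgroup.mem_comap,
          show ρ hF ⟨scal u, hm⟩ = 1 from conjP_scal hF u]
        exact one_mem _
      · show (scal (n := n) u).1.det = ((u ^ n : Fˣ) : F)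
        rw [scal_val, det_smul, det_one, mul_one, Fintype.card_fin, Units.val_pow_eq_pow_val]
    · rintro _ ⟨h, hh, rfl⟩
      exact ⟨h, Subgroup.mem_sup_right (Subgroup.mem_inf.mpr ⟨⟨h, rfl⟩, hh⟩), rfl⟩

section forms

variable {F₀ : Type*} [Field F₀] {ι : F₀ →+* F} {κ : Type} [Fintype κ] [DecidableEq κ]

theorem gs_mult (hι : ∀ y, fr hF y = y ↔ y ∈ ι.range) {k : Matrix (Fin n) κ F} {k' : Matrix κ (Fin n) F} {δ : Fˣ}
    {A : Matrix κ κ F₀} (hk : k * k' = 1) (hkk : (k.map (fr hF))ᵀ * k = (δ : F) • A.map ι) {P : Matrix κ κ F₀}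
    {c : F₀} (hc : Pᵀ * A * P = c • A) :
    ((k * P.map ι * k').map (fr hF))ᵀ * (k * P.map ι * k') = ι c • 1 := by
  have hk1 : (k'.map (fr hF))ᵀ * ((δ : F) • A.map ι) * k' = 1 := by
    rw [← hkk, ← Matrix.mul_assoc, ← transpose_mul, ← Matrix.map_mul, hk, Matrix.map_one _ (map_zero _) (map_one _),
      transpose_one, Matrix.one_mul, hk]
  rw [Matrix.map_mul, Matrix.map_mul, map_fr_ι hF hι, transpose_mul, transpose_mul]
  calc _ = (k'.map (fr hF))ᵀ * ((P.map ι)ᵀ * ((k.map (fr hF))ᵀ * k) * P.map ι) * k' := by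
        simp only [Matrix.mul_assoc]
    _ = _ := by
        rw [hkk, Matrix.mul_smul, Matrix.smul_mul, ← transpose_map (M := P) (f := ι), ← Matrix.map_mul,
          ← Matrix.map_mul, hc, show (c • A).map ι = ι c • A.map ι by ext i j; simp, smul_comm, Matrix.mul_smul,
          Matrix.smul_mul, hk1]

theorem card_κ {k : Matrix (Fin n) κ F} {k' : Matrix κ (Fin n) F} (hk : k * k' = 1) (hk' : k' * k = 1) :
    Fintype.card κ = n := by
  have e := Matrix.toLin'OfInv (m := Fin n) (n := κ) hk hk'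
  have := LinearEquiv.finrank_eq e
  simp only [Module.finrank_fintype_fun_eq_card, Fintype.card_fin] at this
  omega

/-- A similarity of the form gives centralizing unitary elements. -/
theorem mem_T (hι : ∀ y, fr hF y = y ↔ y ∈ ι.range) (hn : 3 ≤ n) (h32 : ¬ (n = 3 ∧ q = 2)) {g : ↥(GS hF n)}
    {A : Matrix κ κ F₀} (hg : Std hF ι g.1 A) {P : Matrix κ κ F₀} (hP : P.det ≠ 0) {c : F₀} {t : F}
    (hc : Pᵀ * A * P = c • A) (ht : fr hF t * t * ι c = 1) :
    ∃ w ∈ T hF g, ((w.1 : Fˣ) : F) = t ^ n * ι P.det := by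
  classical
  obtain ⟨k, k', u, δ, hk, hk', hgk, hkk⟩ := hg
  have ht0 : t ≠ 0 := by rintro rfl; simp at ht
  have hd : (k * P.map ι * k').det = ι P.det := by
    rw [det_conj_of_mul_eq_one hk hk', show P.map ι = ι.mapMatrix P from rfl, ← RingHom.map_det]
  let x₀ : GL (Fin n) F := GeneralLinearGroup.mkOfDetNeZero (k * P.map ι * k') (by rw [hd]; simpa using hP)
  have hx₀ : x₀.1 = k * P.map ι * k' := rfl
  have hx : scal (Units.mk0 t ht0) * x₀ ∈ Cfsg.GU n F q := by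
    rw [mem_GU hF, scal_mul_val, map_smul_fr, transpose_smul, Matrix.smul_mul, Matrix.mul_smul, hx₀,
      gs_mult hF hι hk hkk hc, smul_smul, smul_smul, Units.val_mk0, ht, one_smul]
  have hxg : x₀ ∈ GS hF n := by
    have := (GS hF n).mul_mem (scal_mem hF (Units.mk0 t ht0)⁻¹) (GU_le_GS hF hx)
    rwa [← mul_assoc, ← map_mul, inv_mul_cancel, map_one, one_mul] at this
  refine ⟨_, ⟨⟨_, hx⟩, ?_, rfl⟩, ?_⟩
  · rw [SetLike.mem_coe, Subgroup.mem_comap, Subgroup.mem_centralizer_singleton_iff]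
    show conjP hF ⟨_, GU_le_GS hF hx⟩ * γ hF g = γ hF g * conjP hF ⟨_, GU_le_GS hF hx⟩
    rw [show (⟨_, GU_le_GS hF hx⟩ : ↥(GS hF n)) = ⟨scal _, scal_mem hF _⟩ * ⟨x₀, hxg⟩ from rfl, map_mul,
      conjP_scal, one_mul, ← mul_inv_eq_iff_eq_mul, conj_γ, γ_eq_iff hF hn h32, val_conj]
    refine ⟨1, ?_⟩
    rw [Units.val_one, one_smul]
    have hl : x₀.1 * (g.1.1 * k.map (fr hF)) = g.1.1 * (x₀.1 * k).map (fr hF) := by
      rw [hgk, Matrix.mul_smul, hx₀, Matrix.mul_assoc _ k' k, hk', Matrix.mul_one, Matrix.map_mul,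
        map_fr_ι hF hι, ← Matrix.mul_assoc, hgk, Matrix.smul_mul]
    have hl2 : x₀.1 * g.1.1 = g.1.1 * x₀.1.map (fr hF) := by
      have := congrArg (fun M => M * k'.map (fr hF)) hl
      simp only [Matrix.mul_assoc, ← Matrix.map_mul, hk, Matrix.map_one _ (map_zero (fr hF)) (map_one (fr hF)),
        Matrix.mul_one] at this
      exact this
    rw [hl2, Matrix.mul_assoc, ← Matrix.map_mul, Units.mul_inv, Matrix.map_one _ (map_zero _) (map_one _),
      Matrix.mul_one]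
  · show ((scal (Units.mk0 t ht0) * x₀).1).det = _
    rw [scal_mul_val, det_smul, hx₀, hd, Fintype.card_fin, Units.val_mk0]

/-- A centralizing unitary element comes from a similarity of the form. -/
theorem of_mem_T (hι : ∀ y, fr hF y = y ↔ y ∈ ι.range) (hn : 3 ≤ n) (h32 : ¬ (n = 3 ∧ q = 2)) {g : ↥(GS hF n)}
    {A : Matrix κ κ F₀} (hA : A.det ≠ 0) (hg : Std hF ι g.1 A) {w : ↥(U1 hF)} (hw : w ∈ T hF g) :
    ∃ (P : Matrix κ κ F₀) (c : F₀ˣ) (t : F), Pᵀ * A * P = (c : F₀) • A ∧ fr hF t * t * ι (c : F₀) = 1 ∧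
      ((w.1 : Fˣ) : F) = t ^ n * ι P.det := by
  classical
  obtain ⟨k, k', u, δ, hk, hk', hgk, hkk⟩ := hg
  haveI : Nonempty (Fin n) := ⟨⟨0, by omega⟩⟩
  haveI : Nonempty κ := by
    by_contra hμ
    rw [not_nonempty_iff] at hμ
    exact zero_ne_one (α := Matrix (Fin n) (Fin n) F)
      (by rw [← hk, show k' = 0 from Subsingleton.elim _ _, Matrix.mul_zero])
  obtain ⟨x, hx, rfl⟩ := hw
  rw [SetLike.mem_coe, Subgroup.mem_comap, Subgroup.mem_centralizer_singleton_iff] at hx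
  change conjP hF ⟨x.1, GU_le_GS hF x.2⟩ * γ hF g = γ hF g * conjP hF ⟨x.1, GU_le_GS hF x.2⟩ at hx
  rw [← mul_inv_eq_iff_eq_mul, conj_γ, γ_eq_iff hF hn h32, val_conj] at hx
  obtain ⟨v, hv⟩ := hx
  change x.1.1 * g.1.1 * (x.1⁻¹).1.map (fr hF) = (v : F) • g.1.1 at hv
  have hxk : g.1.1 * (x.1.1 * k).map (fr hF) = ((v⁻¹ * u : Fˣ) : F) • (x.1.1 * k) := by
    have hv' : g.1.1 = (v⁻¹ : Fˣ).1 • (x.1.1 * g.1.1 * (x.1⁻¹).1.map (fr hF)) := by
      rw [hv, smul_smul, Units.inv_mul, one_smul]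
    conv_lhs => rw [hv', Matrix.map_mul, Matrix.smul_mul, Matrix.mul_assoc (x.1.1 * g.1.1),
      ← Matrix.mul_assoc ((x.1⁻¹).1.map _), ← Matrix.map_mul, Units.inv_mul,
      Matrix.map_one _ (map_zero _) (map_one _), Matrix.one_mul, Matrix.mul_assoc, hgk, Matrix.mul_smul, smul_smul]
    rw [Units.val_mul]
  obtain ⟨P, P', t, hP, hP', hx⟩ := transition hF hι (by omega) hk hk' hgk (K' := k' * (x.1⁻¹).1)
    (by rw [Matrix.mul_assoc, ← Matrix.mul_assoc k, hk, Matrix.one_mul, Units.mul_inv])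
    (by rw [Matrix.mul_assoc, ← Matrix.mul_assoc (x.1⁻¹).1, Units.inv_mul, Matrix.one_mul, hk']) hxk
  have hxc : (x.1.1.map (fr hF))ᵀ * x.1.1 = 1 := (mem_GU hF x.1).mp x.2
  have hxkk : (((t : F) • (k * P.map ι)).map (fr hF))ᵀ * ((t : F) • (k * P.map ι)) = (δ : F) • A.map ι := by
    rw [← hx, Matrix.map_mul, transpose_mul, Matrix.mul_assoc, ← Matrix.mul_assoc (x.1.1.map _)ᵀ, hxc,
      Matrix.one_mul, hkk]
  obtain ⟨s, hs⟩ := forms_eq hF hι (by omega) hA hkk hxkk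
  have hc : Pᵀ * A * P = ((s⁻¹ : F₀ˣ) : F₀) • A := by
    conv_rhs => rw [← hs]
    rw [smul_smul, Units.inv_mul, one_smul]
  have hx' : x.1.1 = (t : F) • (k * P.map ι * k') := by
    rw [← Matrix.smul_mul, ← hx, Matrix.mul_assoc, hk, Matrix.mul_one]
  refine ⟨P, s⁻¹, t, hc, ?_, ?_⟩
  · rw [hx', map_smul_fr, transpose_smul, Matrix.smul_mul, Matrix.mul_smul, gs_mult hF hι hk hkk hc, smul_smul,
      smul_smul] at hxc
    have := congrFun (congrFun hxc ⟨0, by omega⟩) ⟨0, by omega⟩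
    simp only [Matrix.smul_apply, Matrix.one_apply_eq, smul_eq_mul, mul_one] at this
    linear_combination this
  · show x.1.1.det = _
    rw [hx', det_smul, Fintype.card_fin, det_conj_of_mul_eq_one hk hk', show P.map ι = ι.mapMatrix P from rfl,
      ← RingHom.map_det]

theorem det_similar {A P : Matrix κ κ F₀} {c : F₀} (hA : A.det ≠ 0) (h : Pᵀ * A * P = c • A) :
    P.det * P.det = c ^ Fintype.card κ := by
  have e := congrArg Matrix.det h
  rw [det_mul, det_mul, det_transpose, det_smul] at e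
  exact mul_right_cancel₀ hA (by linear_combination e)

/-- `t / fr t` for a norm equation. -/
theorem twist_mem (hι : ∀ y, fr hF y = y ↔ y ∈ ι.range) {t : F} {c : F₀} (ht : fr hF t * t * ι c = 1) :
    ∃ w : ↥(U1 hF), ((w.1 : Fˣ) : F) = t * t * ι c := by
  have hne : t * t * ι c ≠ 0 := by
    intro h0
    rcases mul_eq_zero.mp h0 with h | h
    · rw [(mul_self_eq_zero.mp h)] at ht; simp at ht
    · rw [h, mul_zero] at ht; exact zero_ne_one ht
  refine ⟨⟨Units.mk0 _ hne, ?_⟩, rfl⟩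
  rw [mem_U1, Units.val_mk0, map_mul, map_mul, (hι _).mpr ⟨c, rfl⟩]
  linear_combination (fr hF t * t * ι c + 1) * ht

/-- Every norm one element is realized. -/
theorem exists_twist (hι : ∀ y, fr hF y = y ↔ y ∈ ι.range) (w : ↥(U1 hF)) :
    ∃ (t : F) (c : F₀ˣ), fr hF t * t * ι (c : F₀) = 1 ∧ t * t * ι (c : F₀) = ((w.1 : Fˣ) : F) := by
  have hw : w.1 ∈ (PSLn.normUnits (fr hF)).ker := w.2
  rw [PSLn.ker_normUnits] at hw
  obtain ⟨b, hb⟩ := hw
  have hb' : (b : F) / fr hF (b : F) = ((w.1 : Fˣ) : F) := by rw [← PSLn.coe_twistUnits, hb]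
  have hfb : fr hF (b : F) ≠ 0 := by simp
  obtain ⟨c, hc⟩ : (fr hF (b : F) * b)⁻¹ ∈ ι.range := by
    rw [← hι, map_inv₀, map_mul, fr_fr, mul_comm]
  have hc0 : c ≠ 0 := by
    rintro rfl
    rw [map_zero] at hc
    exact inv_ne_zero (mul_ne_zero hfb b.ne_zero) hc.symm
  refine ⟨b, Units.mk0 c hc0, ?_, ?_⟩
  · rw [Units.val_mk0, hc, mul_inv_cancel₀ (mul_ne_zero hfb b.ne_zero)]
  · rw [Units.val_mk0, hc, ← hb']
    field_simp

/-- The classes split as much as possible for `n` odd or `q` even. -/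
theorem split_full (hι : ∀ y, fr hF y = y ↔ y ∈ ι.range) (hn : 3 ≤ n) (h32 : ¬ (n = 3 ∧ q = 2)) (g : ↥(GS hF n))
    {A : Matrix κ κ F₀} (hA : A.det ≠ 0) (hg : Std hF ι g.1 A) (h : Odd n ∨ (2 : F) = 0) :
    Cfsg.splitClassCount (Cfsg.inndiagPSU n F q) (Cfsg.Inn (Cfsg.PSU n F q)) (γ hF g) = Nat.gcd n (q + 1) := by
  classical
  obtain ⟨k, k', u, δ, hk, hk', hgk, hkk⟩ := id hg
  have hcard := card_κ hk hk'
  rw [splitCount hF hn h32 g, sup_eq_left.mpr ?_, IsCyclic.index_powMonoidHom_range, card_U1, Nat.gcd_comm]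
  intro w hw
  obtain ⟨P, c, t, hc, ht, hd⟩ := of_mem_T hF hι hn h32 hA hg hw
  obtain ⟨z, hz⟩ := twist_mem hF hι ht
  have hw2 : w * w = z ^ n := Subtype.ext (Units.ext (by
    show ((w.1 : Fˣ) : F) * ((w.1 : Fˣ) : F) = ((z.1 ^ n : Fˣ) : F)
    have e := congrArg ι (det_similar hA hc)
    rw [hcard, map_mul, map_pow] at e
    rw [Units.val_pow_eq_pow_val, hz, hd, mul_pow, mul_pow]
    linear_combination (t ^ n * t ^ n) * e))
  rcases h with ⟨j, rfl⟩ | h2
  · refine ⟨w / z ^ j, ?_⟩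
    show (w / z ^ j) ^ (2 * j + 1) = w
    rw [div_pow, div_eq_iff_eq_mul, pow_succ', pow_mul, ← pow_mul z, mul_comm j (2 * j + 1), pow_mul z (2 * j + 1),
      ← hw2, pow_two]
  · have hodd : Odd (q + 1) := by
      haveI : CharP F 2 := CharTwo.of_one_ne_zero_of_two_eq_zero one_ne_zero h2
      have he : Fintype.card F % 2 = 0 := FiniteField.even_card_iff_char_two.mp (ringChar.eq F 2)
      rw [hF, ← Nat.even_iff, Nat.even_pow] at he
      exact he.1.add_one
    obtain ⟨r, hr⟩ := hodd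
    have hone : ∀ y : ↥(U1 hF), y ^ (2 * r + 1) = 1 := fun y => by
      rw [← hr, ← card_U1 hF]; exact pow_card_eq_one'
    refine ⟨z ^ (r + 1), ?_⟩
    show (z ^ (r + 1)) ^ n = w
    rw [← pow_mul, mul_comm, pow_mul, ← hw2, ← pow_two, ← pow_mul, show 2 * (r + 1) = 2 * r + 1 + 1 by ring,
      pow_succ, hone, one_mul]

/-- The classes for an alternating matrix. -/
theorem split_alt (hι : ∀ y, fr hF y = y ↔ y ∈ ι.range) (hn : 3 ≤ n) (h32 : ¬ (n = 3 ∧ q = 2)) {m : ℕ}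
    (hnm : n = 2 * m) (g : ↥(GS hF n)) (hg : Std hF ι g.1 (Matrix.J (Fin m) F₀)) :
    Cfsg.splitClassCount (Cfsg.inndiagPSU n F q) (Cfsg.Inn (Cfsg.PSU n F q)) (γ hF g) = Nat.gcd m (q + 1) := by
  classical
  subst hnm
  have hJ : (Matrix.J (Fin m) F₀).det ≠ 0 := (Matrix.isUnit_det_J _ _).ne_zero
  set D : F₀ → Matrix (Fin m ⊕ Fin m) (Fin m ⊕ Fin m) F₀ :=
    fun c => fromBlocks (c • (1 : Matrix (Fin m) (Fin m) F₀)) 0 0 1 with hDdef
  have hD : ∀ c : F₀, D c * Matrix.J (Fin m) F₀ * (D c)ᵀ = c • Matrix.J (Fin m) F₀ := fun c => by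
    simp only [hDdef, Matrix.J, fromBlocks_transpose, fromBlocks_multiply, fromBlocks_smul]
    simp
  have hDd : ∀ c : F₀, (D c).det = c ^ m := fun c => by
    simp [hDdef, det_fromBlocks_zero₂₁, det_smul]
  rw [splitCount hF hn h32 g, show (powMonoidHom (2 * m) : ↥(U1 hF) →* _).range ⊔ T hF g =
    (powMonoidHom m : ↥(U1 hF) →* _).range from ?_, IsCyclic.index_powMonoidHom_range, card_U1, Nat.gcd_comm]
  apply le_antisymm
  · refine sup_le ?_ ?_
    · rintro _ ⟨x, rfl⟩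
      exact ⟨x ^ 2, by show (x ^ 2) ^ m = x ^ (2 * m); rw [pow_mul]⟩
    · intro w hw
      obtain ⟨P, c, t, hc, ht, hd⟩ := of_mem_T hF hι hn h32 hJ hg hw
      obtain ⟨z, hz⟩ := twist_mem hF hι ht
      refine ⟨z, Subtype.ext (Units.ext ?_)⟩
      show ((z.1 ^ m : Fˣ) : F) = ((w.1 : Fˣ) : F)
      have hmem : D (c⁻¹ : F₀ˣ).1 * Pᵀ ∈ Matrix.symplecticGroup (Fin m) F₀ := by
        rw [SymplecticGroup.mem_iff, transpose_mul, transpose_transpose]
        calc _ = D (c⁻¹ : F₀ˣ).1 * (Pᵀ * Matrix.J (Fin m) F₀ * P) * (D (c⁻¹ : F₀ˣ).1)ᵀ := by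
              simp only [Matrix.mul_assoc]
          _ = _ := by rw [hc, Matrix.mul_smul, Matrix.smul_mul, hD, smul_smul, Units.mul_inv, one_smul]
      have e := SymplecticGroup.det_eq_one hmem
      rw [det_mul, hDd, det_transpose] at e
      have hPd : P.det = (c : F₀) ^ m := by
        calc P.det = (c : F₀) ^ m * (((c⁻¹ : F₀ˣ) : F₀) ^ m * P.det) := by
              rw [← mul_assoc, ← mul_pow, Units.mul_inv, one_pow, one_mul]
          _ = _ := by rw [e, mul_one]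
      rw [Units.val_pow_eq_pow_val, hz, hd, hPd, map_pow, pow_mul, pow_two, mul_pow]
  · rintro _ ⟨z, rfl⟩
    obtain ⟨t, c, ht, hz⟩ := exists_twist hF hι z
    obtain ⟨w, hw, hwd⟩ := mem_T hF hι hn h32 hg (P := (D (c : F₀))ᵀ)
      (by rw [det_transpose, hDd]; exact pow_ne_zero _ c.ne_zero) (by rw [transpose_transpose, hD]) ht
    refine Subgroup.mem_sup_right ?_
    rw [show powMonoidHom m z = w from Subtype.ext (Units.ext (by
      rw [hwd, det_transpose, hDd, map_pow, pow_mul, pow_two, ← mul_pow, hz]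
      rfl))]
    exact hw

/-- The classes for a symmetric matrix, `n` even and `q` odd. -/
theorem split_symm [Fintype F₀] (hι : ∀ y, fr hF y = y ↔ y ∈ ι.range) (hn : 3 ≤ n) (h32 : ¬ (n = 3 ∧ q = 2))
    (h2 : (2 : F₀) ≠ 0) (hq : Odd q) {m : ℕ} (hnm : n = 2 * m) (g : ↥(GS hF n))
    {A : Matrix (Fin n) (Fin n) F₀} (hA : A.det ≠ 0) (hAs : Aᵀ = A) (hg : Std hF ι g.1 A) :
    Cfsg.splitClassCount (Cfsg.inndiagPSU n F q) (Cfsg.Inn (Cfsg.PSU n F q)) (γ hF g) =
      Nat.gcd n (q + 1) / 2 := by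
  classical
  subst hnm
  have hneg1 : (-1 : Fˣ) ∈ U1 hF := by rw [mem_U1]; simp
  set e₁ : ↥(U1 hF) := ⟨-1, hneg1⟩ with he₁
  have h2F : (2 : F) ≠ 0 := fun h => h2 (ι.injective (by rw [map_ofNat, h, map_zero]))
  have he₁o : orderOf e₁ = 2 := by
    rw [← Subgroup.orderOf_coe, orderOf_eq_prime_iff]
    refine ⟨by rw [he₁, pow_two, neg_mul_neg, one_mul], fun h => h2F ?_⟩
    have := congrArg Units.val h
    rw [he₁, Units.val_neg, Units.val_one] at this
    linear_combination -this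
  have hhas : e₁ ∈ T hF g := by
    haveI : Invertible (2 : F₀) := invertibleOfNonzero h2
    obtain ⟨d, Q, hQ, hQd⟩ := FiniteForms.exists_diag A (show A.IsSymm from hAs)
    have hu : IsUnit Q.det := isUnit_iff_ne_zero.2 hQ
    let i₀ : Fin (2 * m) := ⟨0, by omega⟩
    let r : Fin (2 * m) → F₀ := Function.update 1 i₀ (-1)
    have hrr : ∀ i, r i * r i = 1 := fun i => by
      rcases eq_or_ne i i₀ with h | h <;> simp [r, h]
    have hQ' : (Q⁻¹)ᵀ * Qᵀ = 1 := by rw [← transpose_mul, mul_nonsing_inv _ hu, transpose_one]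
    have hQ'' : Qᵀ * (Q⁻¹)ᵀ = 1 := by rw [← transpose_mul, nonsing_inv_mul _ hu, transpose_one]
    have hkd : ((Q⁻¹)ᵀ * diagonal r * Qᵀ).det = -1 := by
      rw [det_conj_of_mul_eq_one hQ' hQ'', det_diagonal, Finset.prod_update_of_mem (Finset.mem_univ i₀)]
      simp
    obtain ⟨w, hw, hwd⟩ := mem_T hF hι hn h32 hg (P := ((Q⁻¹)ᵀ * diagonal r * Qᵀ)ᵀ) (c := 1) (t := 1)
      (by rw [det_transpose, hkd]; exact neg_ne_zero.mpr one_ne_zero) (by
        rw [transpose_transpose, one_smul]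
        calc _ = (Q⁻¹)ᵀ * (diagonal r * (Qᵀ * A * Q) * diagonal r) * Q⁻¹ := by
              simp only [transpose_mul, transpose_transpose, diagonal_transpose, Matrix.mul_assoc]
          _ = (Q⁻¹)ᵀ * (Qᵀ * A * Q) * Q⁻¹ := by
              rw [hQd, diagonal_mul_diagonal, diagonal_mul_diagonal,
                show (fun i => r i * d i * r i) = d from funext fun i => by linear_combination d i * hrr i]
          _ = (Q⁻¹)ᵀ * Qᵀ * A * (Q * Q⁻¹) := by simp only [Matrix.mul_assoc]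
          _ = _ := by rw [hQ', mul_nonsing_inv _ hu, Matrix.one_mul, Matrix.mul_one])
      (by simp)
    rwa [show e₁ = w from Subtype.ext (Units.ext (by rw [hwd, det_transpose, hkd]; simp [he₁]))]
  have hpow : ∀ z : ↥(U1 hF), z ^ m ∈ T hF g := by
    intro z
    obtain ⟨t, c, ht, hz⟩ := exists_twist hF hι z
    obtain ⟨P, hP, hPc⟩ : FiniteForms.Congr A ((c : F₀) • A) := by
      rw [FiniteForms.congr_iff h2 hAs (by rw [Matrix.IsSymm, transpose_smul, hAs]) hA
        (by rw [det_smul]; exact mul_ne_zero (pow_ne_zero _ c.ne_zero) hA)]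
      exact ⟨(c : F₀) ^ m * A.det, by rw [det_smul, Fintype.card_fin]; ring⟩
    obtain ⟨w, hw, hwd⟩ := mem_T hF hι hn h32 hg (P := P) hP hPc ht
    have e := det_similar hA hPc
    rw [Fintype.card_fin, show (c : F₀) ^ (2 * m) = (c : F₀) ^ m * (c : F₀) ^ m by rw [two_mul, pow_add],
      mul_self_eq_mul_self_iff] at e
    rcases e with e | e
    · rwa [show z ^ m = w from Subtype.ext (Units.ext (by
        rw [hwd, e, map_pow, pow_mul, pow_two, ← mul_pow, hz]; rfl))]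
    · have := mul_mem hhas hw
      rwa [show z ^ m = e₁ * w from Subtype.ext (Units.ext (by
        show ((z.1 ^ m : Fˣ) : F) = ((e₁.1 : Fˣ) : F) * ((w.1 : Fˣ) : F)
        rw [hwd, e, map_neg, map_pow, pow_mul, pow_two, mul_neg, ← mul_pow, hz, Units.val_pow_eq_pow_val, he₁,
          Units.val_neg, Units.val_one, neg_mul_neg, one_mul]))]
  rw [splitCount hF hn h32 g, show (powMonoidHom (2 * m) : ↥(U1 hF) →* _).range ⊔ T hF g =
    (powMonoidHom m : ↥(U1 hF) →* _).range ⊔ Subgroup.zpowers e₁ from ?_, PSLn.index_powRange_sup]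
  · have hidx := (Subgroup.zpowers e₁).card_mul_index
    rw [Nat.card_zpowers, he₁o, card_U1] at hidx
    rw [← hidx, Nat.gcd_mul_left 2 m, Nat.mul_div_cancel_left _ two_pos]
  apply le_antisymm
  · refine sup_le ?_ ?_
    · rintro _ ⟨x, rfl⟩
      exact Subgroup.mem_sup_left ⟨x ^ 2, by show (x ^ 2) ^ m = x ^ (2 * m); rw [pow_mul]⟩
    · intro w hw
      obtain ⟨P, c, t, hc, ht, hd⟩ := of_mem_T hF hι hn h32 hA hg hw
      obtain ⟨z, hz⟩ := twist_mem hF hι ht
      have e := det_similar hA hc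
      rw [Fintype.card_fin, show (c : F₀) ^ (2 * m) = (c : F₀) ^ m * (c : F₀) ^ m by rw [two_mul, pow_add],
        mul_self_eq_mul_self_iff] at e
      rcases e with e | e
      · refine Subgroup.mem_sup_left ⟨z, Subtype.ext (Units.ext ?_)⟩
        show ((z.1 ^ m : Fˣ) : F) = ((w.1 : Fˣ) : F)
        rw [Units.val_pow_eq_pow_val, hz, hd, e, map_pow, pow_mul, pow_two, mul_pow]
      · rw [show w = z ^ m * e₁ from Subtype.ext (Units.ext (by
          show ((w.1 : Fˣ) : F) = ((z.1 ^ m : Fˣ) : F) * ((e₁.1 : Fˣ) : F)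
          rw [Units.val_pow_eq_pow_val, hz, hd, e, map_neg, map_pow, pow_mul, pow_two, he₁, Units.val_neg,
            Units.val_one]
          ring))]
        exact mul_mem (Subgroup.mem_sup_left ⟨z, rfl⟩) (Subgroup.mem_sup_right (Subgroup.mem_zpowers _))
  · exact sup_le (by rintro _ ⟨z, rfl⟩; exact Subgroup.mem_sup_right (hpow z))
      (Subgroup.zpowers_le.mpr (Subgroup.mem_sup_right hhas))

end forms

end CfsgLib.PSUGraph
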