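import Cfsg.Agent.Lib.UnitarySimple
import Cfsg.Agent.Lib.PSLn.GraphFieldCentral
import Cfsg.Agent.Lib.PSL2.Aut
import Cfsg.Prelude.Def_LieTypeDatum

/-!
Automorphisms of `PSU_n(q)` induced by unitary similitudes and by field automorphisms, and rigidity.
-/

set_option autoImplicit false
set_option linter.unusedSectionVars false

namespace CfsgLib.PSUGraph

open Matrix CfsgLib.UnitaryTransvection CfsgLib.UnitarySimple
open scoped MatrixGroups

variable {F : Type*} [Field F] [Fintype F] {n q : ℕ} (hF : Fintype.card F = q ^ 2)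

/-- The involutory field automorphism. -/
noncomputable def fr : RingAut F :=
  RingEquiv.ofBijective (frob hF)
    ⟨fun x y h => by rw [← frob_frob hF x, h, frob_frob hF], fun x => ⟨frob hF x, frob_frob hF x⟩⟩

theorem fr_apply (x : F) : fr hF x = x ^ q := frob_apply hF x

theorem fr_eq_frob (x : F) : fr hF x = frob hF x := rfl

theorem fr_fr (x : F) : fr hF (fr hF x) = x := frob_frob hF x

theorem fr_ne_one : fr hF ≠ 1 := fun h =>
  frob_ne_id hF (RingHom.ext fun x => RingEquiv.congr_fun h x)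

theorem orderOf_fr : orderOf (fr hF) = 2 :=
  orderOf_eq_prime_iff.mpr ⟨RingEquiv.ext fun x => by rw [pow_two]; exact fr_fr hF x, fr_ne_one hF⟩

theorem map_map_fr {ι κ : Type} (M : Matrix ι κ F) : (M.map (fr hF)).map (fr hF) = M := by
  ext i j; simp [fr_fr]

include hF in
theorem eq_fr (τ : RingAut F) (h : orderOf τ = 2) : τ = fr hF := by
  obtain ⟨p, hp⟩ := CharP.exists F
  obtain ⟨d, hpp, hc⟩ := FiniteField.card F p
  haveI := Fact.mk hpp
  exact RingEquiv.ext fun x => ((PSLn.involutory_ringAut hc τ h).2 x).trans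
    (((PSLn.involutory_ringAut hc (fr hF) (orderOf_fr hF)).2 x).symm)

/-- Unitary similitudes. -/
noncomputable def GS (n : ℕ) : Subgroup (GL (Fin n) F) where
  carrier := {x | ∃ c : Fˣ, (x.1.map (fr hF))ᵀ * x.1 = (c : F) • 1}
  one_mem' := ⟨1, by simp [Matrix.map_one]⟩
  mul_mem' := by
    rintro a b ⟨c, hc⟩ ⟨d, hd⟩
    refine ⟨c * d, ?_⟩
    rw [Units.val_mul, Matrix.map_mul, transpose_mul, Matrix.mul_assoc, ← Matrix.mul_assoc (a.1.map _)ᵀ, hc,
      Matrix.smul_mul, Matrix.one_mul, Matrix.mul_smul, hd, smul_smul, Units.val_mul]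
  inv_mem' := by
    rintro a ⟨c, hc⟩
    refine ⟨c⁻¹, ?_⟩
    have h1 : ((a⁻¹).1.map (fr hF))ᵀ * ((a.1.map (fr hF))ᵀ * a.1) * (a⁻¹).1 = 1 := by
      rw [Matrix.mul_assoc, Matrix.mul_assoc, Units.mul_inv, Matrix.mul_one, ← transpose_mul, ← Matrix.map_mul,
        Units.mul_inv, Matrix.map_one _ (map_zero _) (map_one _), transpose_one]
    rw [hc, Matrix.mul_smul, Matrix.mul_one, Matrix.smul_mul] at h1
    calc _ = (c⁻¹ : Fˣ).1 • ((c : F) • (((a⁻¹).1.map (fr hF))ᵀ * (a⁻¹).1)) := by
          rw [smul_smul, Units.inv_mul, one_smul]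
      _ = _ := by rw [h1]

theorem mem_GS {x : GL (Fin n) F} : x ∈ GS hF n ↔ ∃ c : Fˣ, (x.1.map (fr hF))ᵀ * x.1 = (c : F) • 1 := Iff.rfl

theorem mem_GU (g : GL (Fin n) F) : g ∈ Cfsg.GU n F q ↔ (g.1.map (fr hF))ᵀ * g.1 = 1 := by
  rw [PSLn.mem_GU_iff (fr hF) (fr_apply hF), ← PSLn.unitary_iff (fr hF) (fr_fr hF), mul_eq_one_comm]

theorem GU_le_GS : Cfsg.GU n F q ≤ GS hF n := fun g hg =>
  ⟨1, by rw [Units.val_one, one_smul]; exact (mem_GU hF g).mp hg⟩

/-- A scalar. -/
abbrev scal (t : Fˣ) : GL (Fin n) F := GeneralLinearGroup.scalar (Fin n) t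

theorem scal_val (t : Fˣ) : (scal (n := n) t).1 = (t : F) • (1 : Matrix (Fin n) (Fin n) F) := by
  show Matrix.scalar (Fin n) (t : F) = _
  rw [Matrix.scalar_apply, Matrix.smul_one_eq_diagonal]

theorem scal_mul_val (t : Fˣ) (x : GL (Fin n) F) : (scal t * x).1 = (t : F) • x.1 := by
  rw [Units.val_mul, scal_val, Matrix.smul_mul, Matrix.one_mul]

theorem scal_comm (t : Fˣ) (x : GL (Fin n) F) : scal t * x = x * scal t := Units.ext (by
  rw [Units.val_mul, Units.val_mul, scal_val, Matrix.smul_mul, Matrix.mul_smul, Matrix.one_mul, Matrix.mul_one])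

theorem map_smul_fr {ι κ : Type} (a : F) (M : Matrix ι κ F) : (a • M).map (fr hF) = fr hF a • M.map (fr hF) := by
  ext i j; simp

theorem scal_mem (t : Fˣ) : scal t ∈ GS hF n :=
  ⟨Units.map (fr hF : F →* F) t * t, by
    rw [scal_val, map_smul_fr, Matrix.map_one _ (map_zero _) (map_one _), transpose_smul, transpose_one,
      Matrix.smul_mul, Matrix.one_mul, smul_smul]
    rfl⟩

theorem multiplier_fixed (hn : 0 < n) {x : GL (Fin n) F} {c : Fˣ}
    (h : (x.1.map (fr hF))ᵀ * x.1 = (c : F) • 1) : fr hF (c : F) = c := by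
  have h2 := congrArg (fun M : Matrix (Fin n) (Fin n) F => (M.map (fr hF))ᵀ) h
  simp only [Matrix.map_mul, transpose_mul, transpose_map, map_map_fr, transpose_transpose, map_smul_fr,
    Matrix.map_one _ (map_zero (fr hF)) (map_one (fr hF)), transpose_smul, transpose_one] at h2
  rw [h] at h2
  simpa using congrFun (congrFun h2 ⟨0, hn⟩) ⟨0, hn⟩ |>.symm

/-- A similitude is a scalar multiple of a unitary element. -/
theorem exists_scal_GU (hn : 0 < n) {x : GL (Fin n) F} (hx : x ∈ GS hF n) :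
    ∃ (t : Fˣ) (y : GL (Fin n) F), y ∈ Cfsg.GU n F q ∧ x = scal t * y := by
  obtain ⟨c, hc⟩ := hx
  obtain ⟨t, ht⟩ := exists_norm_eq hF (c := (c : F)) (multiplier_fixed hF hn hc)
  have ht0 : t ≠ 0 := by rintro rfl; rw [zero_mul] at ht; exact c.ne_zero ht.symm
  refine ⟨Units.mk0 t ht0, scal (Units.mk0 t ht0)⁻¹ * x, ?_, by rw [← mul_assoc, ← map_mul, mul_inv_cancel,
    map_one, one_mul]⟩
  rw [mem_GU hF, scal_mul_val, map_smul_fr, transpose_smul, Matrix.smul_mul, Matrix.mul_smul, hc, smul_smul,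
    smul_smul, Units.val_inv_eq_inv_val, Units.val_mk0, ← ht, map_inv₀, fr_eq_frob]
  have hσt : frob hF t ≠ 0 := by simp [ht0]
  rw [show (frob hF t)⁻¹ * t⁻¹ * (t * frob hF t) = 1 by field_simp, one_smul]

theorem su_unit (s : Cfsg.SU n F q) : ((mat s).map (fr hF))ᵀ * mat s = 1 :=
  (mem_GU hF (SpecialLinearGroup.toGL s.1)).mp (fun u v => s.2 u v)

/-- An element of `SU` from a matrix. -/
noncomputable def suOf (M : Matrix (Fin n) (Fin n) F) (hM : (M.map (fr hF))ᵀ * M = 1) (hd : M.det = 1) :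
    Cfsg.SU n F q :=
  ⟨⟨M, hd⟩, fun u v =>
    ((mem_GU hF (GeneralLinearGroup.mkOfDetNeZero M (by rw [hd]; exact one_ne_zero))).mpr hM) u v⟩

theorem mat_suOf (M : Matrix (Fin n) (Fin n) F) (hM : (M.map (fr hF))ᵀ * M = 1) (hd : M.det = 1) :
    mat (suOf hF M hM hd) = M := rfl

theorem su_eq {s t : Cfsg.SU n F q} (h : mat s = mat t) : s = t := Subtype.ext (Subtype.ext h)

theorem conj_unit {x : GL (Fin n) F} (hx : x ∈ GS hF n) (s : Cfsg.SU n F q) :
    ((x.1 * mat s * (x⁻¹).1).map (fr hF))ᵀ * (x.1 * mat s * (x⁻¹).1) = 1 := by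
  obtain ⟨c, hc⟩ := hx
  have hA : ((x⁻¹).1.map (fr hF))ᵀ * (x.1.map (fr hF))ᵀ = 1 := by
    rw [← transpose_mul, ← Matrix.map_mul, Units.mul_inv, Matrix.map_one _ (map_zero _) (map_one _), transpose_one]
  calc _ = ((x⁻¹).1.map (fr hF))ᵀ * (((mat s).map (fr hF))ᵀ * (((x.1.map (fr hF))ᵀ * x.1) * mat s)) * (x⁻¹).1 := by
        simp only [Matrix.map_mul, transpose_mul, Matrix.mul_assoc]
    _ = (c : F) • (((x⁻¹).1.map (fr hF))ᵀ * (x⁻¹).1) := by
        rw [hc, Matrix.smul_mul, Matrix.one_mul, Matrix.mul_smul, su_unit, Matrix.mul_smul, Matrix.mul_one,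
          Matrix.smul_mul]
    _ = ((x⁻¹).1.map (fr hF))ᵀ * ((x.1.map (fr hF))ᵀ * x.1) * (x⁻¹).1 := by
        rw [hc, Matrix.mul_smul, Matrix.mul_one, Matrix.smul_mul]
    _ = _ := by rw [← Matrix.mul_assoc, hA, Matrix.one_mul, Units.mul_inv]

/-- Conjugation by similitudes. -/
noncomputable def conjSU : ↥(GS hF n) →* MulAut (Cfsg.SU n F q) where
  toFun x :=
    { toFun := fun s => suOf hF (x.1.1 * mat s * (x.1⁻¹).1) (conj_unit hF x.2 s) (by
        rw [Matrix.det_units_conj]; exact s.1.2)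
      invFun := fun s => suOf hF ((x.1⁻¹).1 * mat s * (x.1⁻¹⁻¹).1) (conj_unit hF (inv_mem x.2) s) (by
        rw [Matrix.det_units_conj]; exact s.1.2)
      left_inv := fun s => su_eq (by
        show (x.1⁻¹).1 * (x.1.1 * mat s * (x.1⁻¹).1) * (x.1⁻¹⁻¹).1 = mat s
        rw [inv_inv, ← Matrix.mul_assoc, ← Matrix.mul_assoc, Units.inv_mul, Matrix.one_mul, Matrix.mul_assoc,
          Units.inv_mul, Matrix.mul_one])
      right_inv := fun s => su_eq (by
        show x.1.1 * ((x.1⁻¹).1 * mat s * (x.1⁻¹⁻¹).1) * (x.1⁻¹).1 = mat s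
        rw [inv_inv, ← Matrix.mul_assoc, ← Matrix.mul_assoc, Units.mul_inv, Matrix.one_mul, Matrix.mul_assoc,
          Units.mul_inv, Matrix.mul_one])
      map_mul' := fun s t => su_eq (by
        show x.1.1 * mat (s * t) * (x.1⁻¹).1 = x.1.1 * mat s * (x.1⁻¹).1 * (x.1.1 * mat t * (x.1⁻¹).1)
        rw [mat_mul]
        simp only [Matrix.mul_assoc, Units.inv_mul_cancel_left]) }
  map_one' := MulEquiv.ext fun s => su_eq (by
    show (1 : GL (Fin n) F).1 * mat s * ((1 : GL (Fin n) F)⁻¹).1 = mat s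
    simp)
  map_mul' x y := MulEquiv.ext fun s => su_eq (by
    show (x.1 * y.1).1 * mat s * ((x.1 * y.1)⁻¹).1 = x.1.1 * (y.1.1 * mat s * (y.1⁻¹).1) * (x.1⁻¹).1
    rw [_root_.mul_inv_rev, Units.val_mul, Units.val_mul]
    simp only [Matrix.mul_assoc])

/-- Field automorphisms of `SU`. -/
noncomputable def fieldSU : RingAut F →* MulAut (Cfsg.SU n F q) where
  toFun τ :=
    { toFun := fun s => suOf hF ((mat s).map τ) (by
        have e : ((mat s).map τ).map (fr hF) = ((mat s).map (fr hF)).map τ := by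
          ext i j; simp [fr_apply]
        rw [e, ← transpose_map, ← Matrix.map_mul, su_unit, Matrix.map_one _ (map_zero τ) (map_one τ)]) (by
        rw [← RingEquiv.mapMatrix_apply, ← RingEquiv.map_det, show (mat s).det = 1 from s.1.2, map_one])
      invFun := fun s => suOf hF ((mat s).map τ.symm) (by
        have e : ((mat s).map τ.symm).map (fr hF) = ((mat s).map (fr hF)).map τ.symm := by
          ext i j; simp [fr_apply]
        rw [e, ← transpose_map, ← Matrix.map_mul, su_unit, Matrix.map_one _ (map_zero τ.symm) (map_one τ.symm)]) (by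
        rw [← RingEquiv.mapMatrix_apply, ← RingEquiv.map_det, show (mat s).det = 1 from s.1.2, map_one])
      left_inv := fun s => su_eq (by ext i j; simp [mat_suOf])
      right_inv := fun s => su_eq (by ext i j; simp [mat_suOf])
      map_mul' := fun s t => su_eq (by
        show (mat (s * t)).map τ = (mat s).map τ * (mat t).map τ
        rw [mat_mul, Matrix.map_mul]) }
  map_one' := MulEquiv.ext fun s => su_eq (by ext i j; rfl)
  map_mul' τ ρ := MulEquiv.ext fun s => su_eq (by ext i j; rfl)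

/-- Conjugation by similitudes, on `PSU`. -/
noncomputable def conjP : ↥(GS hF n) →* MulAut (Cfsg.PSU n F q) :=
  (PSL2.centreQuotAut (Cfsg.SU n F q)).comp (conjSU hF)

/-- Field automorphisms of `PSU`. -/
noncomputable def fieldP : RingAut F →* MulAut (Cfsg.PSU n F q) :=
  (PSL2.centreQuotAut (Cfsg.SU n F q)).comp (fieldSU hF)

theorem conjP_mk (x : ↥(GS hF n)) (s : Cfsg.SU n F q) :
    conjP hF x (QuotientGroup.mk s) = QuotientGroup.mk (conjSU hF x s) := rfl

theorem fieldP_mk (τ : RingAut F) (s : Cfsg.SU n F q) :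
    fieldP hF τ (QuotientGroup.mk s) = QuotientGroup.mk (fieldSU hF τ s) := rfl

/-- The entrywise image under a field automorphism commuting with `fr`. -/
noncomputable def mapGS (τ : RingAut F) (x : ↥(GS hF n)) : ↥(GS hF n) :=
  ⟨GeneralLinearGroup.map (τ : F ≃+* F).toRingHom x.1, by
    obtain ⟨c, hc⟩ := x.2
    refine ⟨Units.map ((τ : F ≃+* F) : F →* F) c, ?_⟩
    show ((x.1.1.map τ).map (fr hF))ᵀ * x.1.1.map τ = _
    have e : (x.1.1.map τ).map (fr hF) = (x.1.1.map (fr hF)).map τ := by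
      ext i j; simp [fr_apply]
    rw [e, ← transpose_map, ← Matrix.map_mul, hc]
    ext i j
    by_cases h : i = j <;> simp [Matrix.one_apply, h]⟩

theorem fieldP_conjP (τ : RingAut F) (x : ↥(GS hF n)) :
    fieldP hF τ * conjP hF x = conjP hF (mapGS hF τ x) * fieldP hF τ := by
  refine MulEquiv.ext fun a => QuotientGroup.induction_on a fun s => ?_
  show QuotientGroup.mk (fieldSU hF τ (conjSU hF x s)) =
    QuotientGroup.mk (conjSU hF (mapGS hF τ x) (fieldSU hF τ s))
  congr 1
  refine su_eq ?_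
  show (x.1.1 * mat s * (x.1⁻¹).1).map τ = x.1.1.map τ * (mat s).map τ *
    ((GeneralLinearGroup.map (τ : F ≃+* F).toRingHom x.1)⁻¹).1
  rw [← map_inv, Matrix.map_mul, Matrix.map_mul]
  rfl

theorem induced_eq {β : MulAut (Cfsg.PSU n F q)} {g : GL (Fin n) F} (hg : g ∈ GS hF n)
    (h : ∀ s s' : ↥(Cfsg.SU n F q), mat s' = g.1 * mat s * (g⁻¹).1 → β (QuotientGroup.mk s) = QuotientGroup.mk s') :
    β = conjP hF ⟨g, hg⟩ :=
  MulEquiv.ext fun a => QuotientGroup.induction_on a fun s => h s _ rfl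

theorem field_eq {τ : RingAut F} {β : MulAut (Cfsg.PSU n F q)} (h : Cfsg.IsFieldAutPSUOf τ β) :
    β = fieldP hF τ :=
  MulEquiv.ext fun a => QuotientGroup.induction_on a fun s => h s _ rfl

theorem isField (τ : RingAut F) : Cfsg.IsFieldAutPSUOf τ (fieldP hF (n := n) τ) := by
  intro s s' h
  rw [fieldP_mk]
  congr 1
  exact su_eq h.symm

include hF in
theorem herm_single (i j : Fin n) :
    Cfsg.hermForm n F q (Pi.single i 1) (Pi.single j 1) = if i = j then 1 else 0 := by
  rw [UnitaryOrder.herm_single_right hF, Pi.single_apply]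
  simp [eq_comm]

include hF in
/-- Semilinear maps commuting with `SU` act trivially. -/
theorem rigid (hn : 3 ≤ n) (x : GL (Fin n) F) (τ : RingAut F)
    (hcomm : ∀ s : Cfsg.SU n F q, x.1 * (mat s).map τ = mat s * x.1) :
    τ = 1 ∧ ∃ μ : F, x.1 = μ • 1 := by
  classical
  let T : (Fin n → F) → (Fin n → F) := fun v => x.1 *ᵥ (fun i => τ (v i))
  have Tadd : ∀ u v, T (u + v) = T u + T v := fun u v => by
    simp only [T, ← mulVec_add]; congr 1; funext i; simp
  have Tsmul : ∀ (a : F) v, T (a • v) = τ a • T v := fun a v => by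
    simp only [T, ← mulVec_smul]; congr 1; funext i; simp
  have Tinj : Function.Injective T := fun u v h => by
    funext i
    exact τ.injective (congrFun (Matrix.mulVec_injective_of_isUnit x.isUnit h) i)
  have Tzero : T 0 = 0 := by
    have h := Tsmul 0 0
    rwa [zero_smul, map_zero, zero_smul] at h
  have Ts : ∀ (s : Cfsg.SU n F q) v, T (mat s *ᵥ v) = mat s *ᵥ T v := fun s v => by
    show x.1 *ᵥ (fun i => τ ((mat s *ᵥ v) i)) = mat s *ᵥ (x.1 *ᵥ fun i => τ (v i))
    rw [show (fun i => τ ((mat s *ᵥ v) i)) = (mat s).map τ *ᵥ (fun i => τ (v i)) from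
      funext fun i => RingHom.map_mulVec (τ : F ≃+* F).toRingHom (mat s) v i, mulVec_mulVec, mulVec_mulVec, hcomm]
  have fix : ∀ v : Fin n → F, Cfsg.hermForm n F q v v = 0 → v ≠ 0 → ∃ μ : F, T v = μ • v := by
    intro v hv hv0
    obtain ⟨c, hc0, hc⟩ := exists_skew hF
    obtain ⟨y, -, hy⟩ := exists_partner hF hv0
    have e := Ts (tv hF v hv c hc) y
    rw [tv_mulVec, tv_mulVec, Tadd, Tsmul, hy, mul_one, add_right_inj] at e
    exact ⟨(τ c)⁻¹ * (c * Cfsg.hermForm n F q (T y) v), by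
      rw [← smul_smul, ← e, smul_smul, inv_mul_cancel₀ (by simpa using hc0), one_smul]⟩
  obtain ⟨d, hd⟩ := exists_trace_one hF
  obtain ⟨ω, hω⟩ := exists_norm_eq hF (c := (-1 : F)) (by rw [map_neg, map_one])
  have key : ∀ i j k : Fin n, i ≠ j → i ≠ k → j ≠ k →
      (∀ b : F, τ b = b) ∧ ∃ μ : F, T (Pi.single i 1) = μ • Pi.single i 1 ∧
        T (Pi.single j 1 + ω • Pi.single k 1) = μ • (Pi.single j 1 + ω • Pi.single k 1) := by
    intro i j k hij hik hjk
    set v : Fin n → F := Pi.single j 1 + ω • Pi.single k 1 with hvdef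
    set u : Fin n → F := Pi.single i 1 with hudef
    set w : Fin n → F := Pi.single j 1 - d • v with hwdef
    have hh := herm_single hF (n := n)
    have hvv : Cfsg.hermForm n F q v v = 0 := by
      simp [hvdef, h_add_left, h_add_right hF, h_smul_left, h_smul_right hF, hh, hjk, hjk.symm]
      linear_combination hω
    have hvj : Cfsg.hermForm n F q v (Pi.single j 1) = 1 := by
      simp [hvdef, h_add_left, h_smul_left, hh, hjk.symm]
    have hjv : Cfsg.hermForm n F q (Pi.single j 1) v = 1 := by rw [← h_swap hF v, hvj, map_one]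
    have huv : Cfsg.hermForm n F q u v = 0 := by
      simp [hvdef, hudef, h_add_right hF, h_smul_right hF, hh, hij, hik]
    have hvu : Cfsg.hermForm n F q v u = 0 := by rw [← h_swap hF u, huv, map_zero]
    have huu : Cfsg.hermForm n F q u u = 1 := by rw [hudef, hh, if_pos rfl]
    have hww : Cfsg.hermForm n F q w w = 0 := by
      simp [hwdef, h_sub_left, h_sub_right hF, h_smul_left, h_smul_right hF, hh, hvv, hvj, hjv]
      linear_combination -hd
    have hvw : Cfsg.hermForm n F q v w = 1 := by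
      rw [hwdef, h_sub_right hF, h_smul_right hF, hvj, hvv, mul_zero, sub_zero]
    have hwv : Cfsg.hermForm n F q w v = 1 := by rw [← h_swap hF v, hvw, map_one]
    have huj : Cfsg.hermForm n F q u (Pi.single j 1) = 0 := by rw [hudef, hh, if_neg hij]
    have huw : Cfsg.hermForm n F q u w = 0 := by
      rw [hwdef, h_sub_right hF, h_smul_right hF, huv, huj, mul_zero, sub_zero]
    have hwu : Cfsg.hermForm n F q w u = 0 := by rw [← h_swap hF u, huw, map_zero]
    have hv0 : v ≠ 0 := fun h => by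
      have := congrFun h j
      simp [hvdef, hjk] at this
    have hw0 : w ≠ 0 := fun h => by
      rw [h] at hwv
      simp [Cfsg.hermForm] at hwv
    obtain ⟨μv, hμv⟩ := fix v hvv hv0
    obtain ⟨μw, hμw⟩ := fix w hww hw0
    have hμv0 : μv ≠ 0 := by
      rintro rfl
      rw [zero_smul, ← Tzero] at hμv
      exact hv0 (Tinj hμv)
    have hpt : ∀ a b : F, a + frob hF a + b * frob hF b = 0 →
        ∃ μ : F, μv • v + τ b • T u + (τ a * μw) • w = μ • (v + b • u + a • w) := by
      intro a b hab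
      set P := v + b • u + a • w with hP
      have hPP : Cfsg.hermForm n F q P P = 0 := by
        simp [hP, h_add_left, h_add_right hF, h_smul_left, h_smul_right hF, hvv, hvw, hwv, hww, huv, hvu, huw,
          hwu, huu]
        linear_combination hab
      have hP0 : P ≠ 0 := fun h => by
        have h1 : Cfsg.hermForm n F q P w = 0 := by rw [h]; simp [Cfsg.hermForm]
        rw [hP, h_add_left, h_add_left, h_smul_left, h_smul_left, hvw, huw, hww] at h1
        simp at h1
      obtain ⟨μ, hμ⟩ := fix P hPP hP0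
      refine ⟨μ, ?_⟩
      rw [← hμ, hP, Tadd, Tadd, Tsmul, Tsmul, hμv, hμw, smul_smul]
    have hzero : ∀ a : F, a + frob hF a = 0 → τ a * μw = μv * a := by
      intro a ha
      obtain ⟨μ, hμ⟩ := hpt a 0 (by simpa using ha)
      simp only [map_zero, zero_smul, add_zero] at hμ
      have e1 := congrArg (fun z => Cfsg.hermForm n F q z w) hμ
      have e2 := congrArg (fun z => Cfsg.hermForm n F q z v) hμ
      simp only [h_add_left, h_smul_left, hvw, hww, hvv, hwv, mul_one, mul_zero, add_zero, zero_add] at e1 e2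
      rw [e2, e1]
    obtain ⟨δ, hδ0, hδ⟩ := exists_skew hF
    have hd1 : -d + frob hF (-d) + 1 * frob hF 1 = 0 := by
      rw [map_neg, map_one]; linear_combination -hd
    obtain ⟨μ, hμ⟩ := hpt (-d) 1 hd1
    obtain ⟨μ', hμ'⟩ := hpt (-d + δ) 1 (by rw [map_add]; linear_combination hd1 + hδ)
    have hsub : (τ δ * μw) • w = (μ' - μ) • (v + (1 : F) • u) + (μ' * (-d + δ) - μ * -d) • w := by
      have h2 : (μv • v + τ 1 • T u + (τ (-d + δ) * μw) • w) - (μv • v + τ 1 • T u + (τ (-d) * μw) • w) =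
          μ' • (v + (1 : F) • u + (-d + δ) • w) - μ • (v + (1 : F) • u + -d • w) := by rw [hμ, hμ']
      rw [map_add τ (-d) δ] at h2
      simp only [add_mul, smul_add, smul_smul, add_smul, mul_one] at h2
      simp only [sub_smul, smul_add, smul_smul, mul_one]
      funext l
      have h3 := congrFun h2 l
      simp only [Pi.add_apply, Pi.sub_apply, Pi.smul_apply, smul_eq_mul] at h3 ⊢
      linear_combination h3
    have hμμ : μ' = μ := by
      have e := congrArg (fun z => Cfsg.hermForm n F q z w) hsub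
      simp only [h_add_left, h_smul_left, hvw, hww, huw, mul_one, mul_zero, add_zero] at e
      exact sub_eq_zero.mp e.symm
    have hμv' : μ = μv := by
      have e := congrArg (fun z => Cfsg.hermForm n F q z v) hsub
      simp only [h_add_left, h_smul_left, hvv, hwv, huv, mul_one, mul_zero, add_zero, zero_add, hμμ] at e
      rw [hzero δ hδ] at e
      exact mul_right_cancel₀ hδ0 (by linear_combination -e)
    subst hμv'
    obtain ⟨e, he⟩ : ∃ e, T u = μ • u + e • w := by
      refine ⟨μ * -d - τ (-d) * μw, ?_⟩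
      funext l
      have h3 := congrFun hμ l
      simp only [map_one, Pi.add_apply, Pi.smul_apply, smul_eq_mul] at h3 ⊢
      linear_combination h3
    have hτ : ∀ b : F, τ b = b := by
      intro b
      obtain ⟨μ'', hμ''⟩ := hpt (-(b * frob hF b) * d) b (by
        simp only [map_mul, map_neg, frob_frob]
        linear_combination -(b * frob hF b) * hd)
      rw [he] at hμ''
      have e1 := congrArg (fun z => Cfsg.hermForm n F q z w) hμ''
      have e2 := congrArg (fun z => Cfsg.hermForm n F q z u) hμ''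
      simp only [h_add_left, h_smul_left, hvw, hww, huw, hvu, huu, hwu, mul_one, mul_zero, add_zero, zero_add]
        at e1 e2
      rw [← e1] at e2
      exact mul_right_cancel₀ hμv0 (by linear_combination e2)
    refine ⟨hτ, μ, ?_, hμv⟩
    have hww' : μw = μ := by
      have := hzero δ hδ
      rw [hτ, mul_comm] at this
      exact mul_right_cancel₀ hδ0 this
    funext l
    have h3 := congrFun hμ l
    simp only [hτ, hww', Pi.add_apply, Pi.smul_apply, smul_eq_mul, one_mul] at h3 ⊢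
    linear_combination h3
  let i₀ : Fin n := ⟨0, by omega⟩
  let i₁ : Fin n := ⟨1, by omega⟩
  let i₂ : Fin n := ⟨2, by omega⟩
  have hτ : τ = 1 := RingEquiv.ext fun b =>
    (key i₀ i₁ i₂ (by simp [i₀, i₁]) (by simp [i₀, i₂]) (by simp [i₁, i₂])).1 b
  refine ⟨hτ, ?_⟩
  have third : ∀ i j : Fin n, ∃ k, k ≠ i ∧ k ≠ j := by
    intro i j
    obtain ⟨k, hk⟩ := Finset.card_pos.mp (show 0 < (({i, j} : Finset (Fin n))ᶜ).card by
      rw [Finset.card_compl, Fintype.card_fin]
      have := (Finset.card_le_two (a := i) (b := j))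
      omega)
    simp only [Finset.mem_compl, Finset.mem_insert, Finset.mem_singleton, not_or] at hk
    exact ⟨k, hk.1, hk.2⟩
  have eig : ∀ i : Fin n, ∃ μ : F, T (Pi.single i 1) = μ • Pi.single i 1 := by
    intro i
    obtain ⟨j, hj, -⟩ := third i i
    obtain ⟨k, hki, hkj⟩ := third i j
    obtain ⟨-, μ, h, -⟩ := key i j k hj.symm hki.symm hkj.symm
    exact ⟨μ, h⟩
  choose lam hlam using eig
  have hlam' : ∀ i j, lam j = lam i := by
    intro i j
    rcases eq_or_ne i j with rfl | hij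
    · rfl
    obtain ⟨k, hki, hkj⟩ := third i j
    obtain ⟨-, μ, h1, h2⟩ := key i j k hij hki.symm hkj.symm
    have e1 : lam i = μ := by
      have := congrFun ((hlam i).symm.trans h1) i
      simpa using this
    rw [Tadd, Tsmul, hlam, hlam, hτ, RingAut.one_apply] at h2
    have := congrFun h2 j
    simp [hkj.symm] at this
    rw [e1, this]
  refine ⟨lam i₀, Matrix.ext_of_mulVec_single fun i => ?_⟩
  have e := hlam i
  rw [hlam' i₀ i] at e
  rw [smul_mulVec, one_mulVec, ← e]
  simp only [T]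
  congr 1
  funext l
  rcases eq_or_ne l i with rfl | hl <;> simp [*]

include hF in
theorem mk_eq_iff_center (a b : Cfsg.SU n F q) :
    (QuotientGroup.mk a : Cfsg.PSU n F q) = QuotientGroup.mk b ↔ a⁻¹ * b ∈ Subgroup.center (Cfsg.SU n F q) :=
  QuotientGroup.eq

/-- Only scalars act trivially on `PSU`. -/
theorem conj_field_one (hn : 3 ≤ n) (h32 : ¬ (n = 3 ∧ q = 2)) (x : ↥(GS hF n)) (τ : RingAut F)
    (h : conjP hF x * fieldP hF τ = 1) : τ = 1 ∧ ∃ μ : Fˣ, x.1 = scal μ := by
  let A : MulAut (Cfsg.SU n F q) := conjSU hF x * fieldSU hF τ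
  have hA : ∀ s, s⁻¹ * A s ∈ Subgroup.center (Cfsg.SU n F q) := fun s => by
    have e := congrArg (fun β : MulAut (Cfsg.PSU n F q) => β (QuotientGroup.mk s)) h
    exact (mk_eq_iff_center hF s (A s)).mp e.symm
  let δ : Cfsg.SU n F q →* Subgroup.center (Cfsg.SU n F q) :=
    { toFun := fun s => ⟨s⁻¹ * A s, hA s⟩
      map_one' := Subtype.ext (by simp)
      map_mul' := fun s t => Subtype.ext (by
        show (s * t)⁻¹ * A (s * t) = s⁻¹ * A s * (t⁻¹ * A t)
        rw [map_mul, _root_.mul_inv_rev, mul_assoc (t⁻¹), ← mul_assoc s⁻¹, ← mul_assoc t⁻¹,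
          (Subgroup.mem_center_iff.mp (hA s) t⁻¹), mul_assoc]) }
  have hδ : ∀ s, A s = s := fun s => by
    have hk : commutator (Cfsg.SU n F q) ≤ δ.ker := by
      rw [commutator_def, Subgroup.commutator_le]
      intro a _ b _
      rw [MonoidHom.mem_ker, map_commutatorElement, commutatorElement_eq_one_iff_mul_comm]
      exact Subtype.ext ((Subgroup.mem_center_iff.mp (δ a).2 (δ b)).symm)
    rw [perfect hF hn h32] at hk
    have := congrArg Subtype.val (hk (Subgroup.mem_top s))
    exact (inv_mul_eq_one.mp this).symm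
  obtain ⟨hτ, μ, hμ⟩ := rigid hF hn x.1 τ fun s => by
    have e : x.1.1 * (mat s).map τ * (x.1⁻¹).1 = mat s := congrArg mat (hδ s)
    rw [← e, Matrix.mul_assoc (x.1.1 * (mat s).map τ), Units.inv_mul, Matrix.mul_one, e]
  refine ⟨hτ, ?_⟩
  have hμ0 : μ ≠ 0 := by
    rintro rfl
    rw [zero_smul] at hμ
    haveI : Nonempty (Fin n) := ⟨⟨0, by omega⟩⟩
    exact x.1.ne_zero hμ
  exact ⟨Units.mk0 μ hμ0, Units.ext (by rw [scal_val]; exact hμ)⟩

theorem conjP_scal (μ : Fˣ) : conjP hF ⟨scal (n := n) μ, scal_mem hF μ⟩ = 1 := by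
  refine MulEquiv.ext fun a => QuotientGroup.induction_on a fun s => ?_
  rw [conjP_mk, MulAut.one_apply]
  congr 1
  refine su_eq ?_
  show (scal μ).1 * mat s * ((scal μ)⁻¹).1 = mat s
  rw [← map_inv, scal_val, scal_val]
  simp [smul_smul]

theorem conjP_eq_iff (hn : 3 ≤ n) (h32 : ¬ (n = 3 ∧ q = 2)) (x y : ↥(GS hF n)) :
    conjP hF x = conjP hF y ↔ ∃ u : Fˣ, x.1.1 = (u : F) • y.1.1 := by
  constructor
  · intro h
    obtain ⟨-, μ, hμ⟩ := conj_field_one hF hn h32 (x * y⁻¹) 1 (by rw [map_one, mul_one, map_mul, map_inv, h, mul_inv_cancel])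
    exact ⟨μ, by rw [← scal_mul_val, ← hμ]; simp⟩
  · rintro ⟨u, hu⟩
    have e : x = ⟨scal u, scal_mem hF u⟩ * y := Subtype.ext (Units.ext (by
      rw [hu]; exact (scal_mul_val u y.1).symm))
    rw [e, map_mul, conjP_scal, one_mul]

theorem inndiag_eq (hn : 0 < n) : Cfsg.inndiagPSU n F q = (conjP hF (n := n)).range := by
  apply le_antisymm
  · refine (Subgroup.closure_le _).mpr fun β hβ => ?_
    obtain ⟨g, hg, h⟩ := hβ
    exact ⟨⟨g, GU_le_GS hF hg⟩, (induced_eq hF _ h).symm⟩
  · rintro _ ⟨⟨x, hx⟩, rfl⟩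
    obtain ⟨t, y, hy, rfl⟩ := exists_scal_GU hF hn hx
    have e : (⟨scal t * y, hx⟩ : ↥(GS hF n)) = ⟨scal t, scal_mem hF t⟩ * ⟨y, GU_le_GS hF hy⟩ := rfl
    rw [e, map_mul, conjP_scal, one_mul]
    refine Subgroup.subset_closure ⟨y, hy, fun s s' h => ?_⟩
    rw [conjP_mk]
    congr 1
    exact su_eq h.symm

end CfsgLib.PSUGraph
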