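import Cfsg.Agent.Lib.PSUGraph.Basic
import Cfsg.Agent.Lib.PSLnGraph.Classify

/-!
Involutory graph automorphisms of `PSU_n(q)` and forms over the subfield with `q` elements.
-/

set_option autoImplicit false
set_option linter.unusedSectionVars false

namespace CfsgLib.PSUGraph

open Matrix CfsgLib.UnitaryTransvection CfsgLib.UnitarySimple
open CfsgLib.PSLnGraph (Rel SimGrp)
open scoped MatrixGroups

variable {F : Type*} [Field F] [Fintype F] {n q : ℕ} (hF : Fintype.card F = q ^ 2)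

/-- The graph automorphism attached to a similitude. -/
noncomputable def γ (g : ↥(GS hF n)) : MulAut (Cfsg.PSU n F q) := conjP hF g * fieldP hF (fr hF)

theorem fr_mul_fr : fr hF * fr hF = 1 := RingEquiv.ext (fr_fr hF)

theorem γ_mul_self (g : ↥(GS hF n)) : γ hF g * γ hF g = conjP hF (g * mapGS hF (fr hF) g) := by
  rw [γ, mul_assoc, ← mul_assoc (fieldP hF (fr hF)), fieldP_conjP, mul_assoc, ← map_mul, fr_mul_fr, map_one, mul_one,
    map_mul]

theorem γ_ne_one (hn : 3 ≤ n) (h32 : ¬ (n = 3 ∧ q = 2)) (g : ↥(GS hF n)) : γ hF g ≠ 1 := fun h =>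
  fr_ne_one hF (conj_field_one hF hn h32 g (fr hF) h).1

theorem orderOf_γ (hn : 3 ≤ n) (h32 : ¬ (n = 3 ∧ q = 2)) (g : ↥(GS hF n)) :
    orderOf (γ hF g) = 2 ↔ ∃ c : Fˣ, g.1.1 * g.1.1.map (fr hF) = (c : F) • 1 := by
  have hx : γ hF g * γ hF g = 1 ↔ ∃ c : Fˣ, g.1.1 * g.1.1.map (fr hF) = (c : F) • 1 := by
    rw [γ_mul_self, ← (conjP hF).map_one, conjP_eq_iff hF hn h32]
    rfl
  rw [← hx, orderOf_eq_iff (by omega : 0 < 2)]
  refine ⟨fun h => by rw [← pow_two]; exact h.1, fun h => ⟨by rw [pow_two]; exact h, fun m hm hm0 => ?_⟩⟩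
  obtain rfl : m = 1 := by omega
  rw [pow_one]
  exact γ_ne_one hF hn h32 g

include hF in
theorem exists_γ (hn : 3 ≤ n) (h32 : ¬ (n = 3 ∧ q = 2)) {β : MulAut (Cfsg.PSU n F q)}
    (h : Cfsg.IsGraphAutClassPSU β) (h2 : orderOf β = 2) : ∃ g : ↥(GS hF n), β = γ hF g := by
  obtain ⟨-, δ, φ, τ, hτ, ⟨g, hg, hδ⟩, hφ, rfl⟩ := h
  have eδ : δ = conjP hF ⟨g, GU_le_GS hF hg⟩ := induced_eq hF _ hδ
  have eφ : φ = fieldP hF τ := field_eq hF hφ
  subst eδ eφ
  refine ⟨⟨g, GU_le_GS hF hg⟩, ?_⟩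
  have h1 : (conjP hF ⟨g, GU_le_GS hF hg⟩ * fieldP hF τ) * (conjP hF ⟨g, GU_le_GS hF hg⟩ * fieldP hF τ) = 1 := by
    rw [← pow_two, ← h2]; exact pow_orderOf_eq_one _
  rw [mul_assoc, ← mul_assoc (fieldP hF τ), fieldP_conjP, mul_assoc, ← map_mul, ← mul_assoc, ← map_mul] at h1
  have ht := (conj_field_one hF hn h32 _ _ h1).1
  have hord : orderOf τ = 2 := by
    have hd : orderOf τ ∣ 2 := orderOf_dvd_of_pow_eq_one (by rw [pow_two, ht])
    rcases (Nat.dvd_prime Nat.prime_two).mp hd with h | h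
    · rw [h] at hτ; exact absurd hτ (by decide)
    · exact h
  rw [γ, eq_fr hF τ hord]

theorem graphClass_γ (hn : 3 ≤ n) (g : ↥(GS hF n)) : Cfsg.IsGraphAutClassPSU (γ hF g) := by
  obtain ⟨t, y, hy, e⟩ := exists_scal_GU hF (by omega) g.2
  have hg : g = ⟨scal t, scal_mem hF t⟩ * ⟨y, GU_le_GS hF hy⟩ := Subtype.ext e
  refine ⟨hn, conjP hF g, fieldP hF (fr hF), fr hF, by rw [orderOf_fr]; exact even_two, ⟨y, hy, fun s s' h => ?_⟩,
    isField hF _, rfl⟩
  rw [hg, map_mul, conjP_scal, one_mul, conjP_mk]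
  congr 1
  exact su_eq h.symm

theorem γ_eq_iff (hn : 3 ≤ n) (h32 : ¬ (n = 3 ∧ q = 2)) (g h : ↥(GS hF n)) :
    γ hF g = γ hF h ↔ ∃ u : Fˣ, g.1.1 = (u : F) • h.1.1 := by
  rw [γ, γ, mul_left_inj, conjP_eq_iff hF hn h32]

theorem conj_γ (x g : ↥(GS hF n)) :
    conjP hF x * γ hF g * (conjP hF x)⁻¹ = γ hF (x * g * mapGS hF (fr hF) x⁻¹) := by
  rw [γ, γ, ← map_inv, mul_assoc, mul_assoc, fieldP_conjP, ← mul_assoc, ← mul_assoc, ← map_mul, ← map_mul]

theorem val_conj (x g : ↥(GS hF n)) :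
    (x * g * mapGS hF (fr hF) x⁻¹).1.1 = x.1.1 * g.1.1 * (x.1⁻¹).1.map (fr hF) := rfl

section models

variable {F₀ : Type*} [Field F₀] {ι : F₀ →+* F} {κ μ' : Type} [Fintype κ] [DecidableEq κ] [Fintype μ'] [DecidableEq μ']

/-- The semilinear map of `g` has a fixed basis in which the hermitian form has matrix `δ A`. -/
def Std (ι : F₀ →+* F) (g : GL (Fin n) F) (A : Matrix κ κ F₀) : Prop :=
  ∃ (k : Matrix (Fin n) κ F) (k' : Matrix κ (Fin n) F) (u δ : Fˣ), k * k' = 1 ∧ k' * k = 1 ∧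
    g.1 * k.map (fr hF) = (u : F) • k ∧ (k.map (fr hF))ᵀ * k = (δ : F) • A.map ι

theorem map_fr_ι (hι : ∀ y, fr hF y = y ↔ y ∈ ι.range) {α β : Type} (P : Matrix α β F₀) :
    (P.map ι).map (fr hF) = P.map ι := by
  ext i j; exact (hι _).mpr ⟨P i j, rfl⟩

theorem exists_descend (hι : ∀ y, fr hF y = y ↔ y ∈ ι.range) {α β : Type} (M : Matrix α β F)
    (h : M.map (fr hF) = M) : ∃ M₀ : Matrix α β F₀, M₀.map ι = M := by
  choose M₀ hM₀ using fun i j => (hι (M i j)).mp (congrFun (congrFun h i) j)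
  exact ⟨Matrix.of M₀, Matrix.ext hM₀⟩

theorem Std.rel (hι : ∀ y, fr hF y = y ↔ y ∈ ι.range) {g : GL (Fin n) F} {A : Matrix κ κ F₀}
    {B : Matrix μ' μ' F₀} (hg : Std hF ι g A) (h : Rel A B) : Std hF ι g B := by
  obtain ⟨k, k', u, δ, hk, hk', hgk, hkk⟩ := hg
  obtain ⟨P, P', s, hP, hP', rfl⟩ := h
  refine ⟨k * P.map ι, P'.map ι * k', u, δ * Units.map (ι : F₀ →* F) s⁻¹, ?_, ?_, ?_, ?_⟩
  · rw [Matrix.mul_assoc, ← Matrix.mul_assoc (P.map ι), ← Matrix.map_mul, hP,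
      Matrix.map_one _ (map_zero ι) (map_one ι), Matrix.one_mul, hk]
  · rw [Matrix.mul_assoc, ← Matrix.mul_assoc k', hk', Matrix.one_mul, ← Matrix.map_mul, hP',
      Matrix.map_one _ (map_zero ι) (map_one ι)]
  · rw [Matrix.map_mul, map_fr_ι hF hι, ← Matrix.mul_assoc, hgk, Matrix.smul_mul]
  · rw [Matrix.map_mul, map_fr_ι hF hι, transpose_mul, Matrix.mul_assoc, ← Matrix.mul_assoc (k.map (fr hF))ᵀ, hkk,
      Matrix.smul_mul, Matrix.mul_smul]
    ext i j
    simp only [Matrix.smul_apply, Matrix.map_apply, smul_eq_mul, Units.val_mul, Units.coe_map,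
      Units.val_inv_eq_inv_val, MonoidHom.coe_coe, map_inv₀, map_mul]
    rw [← transpose_map, ← Matrix.map_mul, ← Matrix.map_mul, Matrix.map_apply, ← Matrix.mul_assoc]
    have hs : ι (s : F₀) ≠ 0 := by simp
    field_simp

theorem exists_emb (F₀ : Type*) [Field F₀] [Fintype F₀] (hF₀ : Fintype.card F₀ = q) :
    ∃ ι : F₀ →+* F, ∀ y, fr hF y = y ↔ y ∈ ι.range := by
  classical
  have h := PSLn.card_eq_fixedField_pow (fr hF)
  rw [orderOf_fr, hF] at h
  have hc : Nat.card (PSLn.fixedField (fr hF)) = q := (Nat.pow_left_injective two_ne_zero h).symm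
  haveI : Fintype (PSLn.fixedField (fr hF)) := Fintype.ofFinite _
  let e : F₀ ≃+* PSLn.fixedField (fr hF) :=
    FiniteField.ringEquivOfCardEq (hF₀.trans (hc.symm.trans Nat.card_eq_fintype_card))
  exact ⟨(PSLn.fixedField (fr hF)).subtype.comp e.toRingHom, fun y =>
    ⟨fun hy => ⟨e.symm ⟨y, hy⟩, by simp⟩, by rintro ⟨a, rfl⟩; exact (e a).2⟩⟩

/-- Every involutory graph automorphism comes from a symmetric or skew matrix over the subfield. -/
theorem exists_std (hι : ∀ y, fr hF y = y ↔ y ∈ ι.range) (hn : 0 < n) (g : ↥(GS hF n))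
    (h : ∃ c : Fˣ, g.1.1 * g.1.1.map (fr hF) = (c : F) • 1) :
    ∃ A : Matrix (Fin n) (Fin n) F₀, A.det ≠ 0 ∧ (Aᵀ = A ∨ Aᵀ = -A) ∧ Std hF ι g.1 A := by
  classical
  obtain ⟨c, hc⟩ := h
  obtain ⟨c', hc'⟩ := g.2
  haveI : Nonempty (Fin n) := ⟨⟨0, hn⟩⟩
  obtain ⟨k, d, hd, hk⟩ := PSLn.exists_descent_scalar (fr hF) hn g.1 (c : F) (by
    rw [orderOf_fr, show PSLn.tw (fr hF) g.1.1 2 = g.1.1 * (PSLn.tw (fr hF) g.1.1 1).map (fr hF) from rfl,
      PSLn.tw_one, hc, Matrix.scalar_apply, Matrix.smul_one_eq_diagonal])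
  set u : Fˣ := (Units.mk0 d hd)⁻¹
  have hgk : g.1.1 * k.1.map (fr hF) = (u : F) • k.1 := by
    conv_rhs => rw [← hk]
    rw [smul_smul, Units.val_inv_eq_inv_val, Units.val_mk0, inv_mul_cancel₀ hd, one_smul]
  set H := (k.1.map (fr hF))ᵀ * k.1 with hH
  have hHt : Hᵀ = k.1ᵀ * k.1.map (fr hF) := by rw [hH, transpose_mul, transpose_transpose]
  have hHσ : H.map (fr hF) = Hᵀ := by
    rw [hHt, hH, Matrix.map_mul, ← transpose_map, map_map_fr]
  have hrel : (c' : F) • Hᵀ = (fr hF (u : F) * u) • H := by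
    have e1 : (((g.1.1 * k.1.map (fr hF)).map (fr hF))ᵀ) * (g.1.1 * k.1.map (fr hF)) =
        (c' : F) • Hᵀ := by
      rw [hHt, Matrix.map_mul, map_map_fr, transpose_mul, Matrix.mul_assoc, ← Matrix.mul_assoc (g.1.1.map _)ᵀ, hc',
        Matrix.smul_mul, Matrix.one_mul, Matrix.mul_smul]
    rw [← e1, hgk, map_smul_fr, transpose_smul, Matrix.smul_mul, Matrix.mul_smul, smul_smul]
  set ε : F := (c' : F)⁻¹ * (fr hF (u : F) * u) with hεdef
  have hε : Hᵀ = ε • H := by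
    rw [hεdef, ← smul_smul, ← hrel, smul_smul, inv_mul_cancel₀ c'.ne_zero, one_smul]
  have hHdet : H.det ≠ 0 := by
    rw [hH, det_mul, det_transpose, show k.1.map (fr hF) = (fr hF).mapMatrix k.1 from rfl, ← RingEquiv.map_det]
    exact mul_ne_zero (by simpa using PSLnGraph.det_gl_ne k) (PSLnGraph.det_gl_ne k)
  obtain ⟨i, j, hij⟩ : ∃ i j, H i j ≠ 0 := by
    by_contra hh
    push Not at hh
    exact hHdet (by rw [show H = 0 from Matrix.ext hh, det_zero])
  have hε2 : ε * ε = 1 := by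
    have := congrFun (congrFun hε j) i
    have e2 := congrFun (congrFun hε i) j
    simp only [transpose_apply, Matrix.smul_apply, smul_eq_mul] at this e2
    rw [e2, ← mul_assoc] at this
    exact (mul_eq_right₀ hij).mp this.symm
  have mk : ∀ (δ : Fˣ), fr hF (δ : F) = ε * δ →
      ∃ A : Matrix (Fin n) (Fin n) F₀, A.det ≠ 0 ∧ Aᵀ.map ι = ε • A.map ι ∧ Std hF ι g.1 A := by
    intro δ hδ
    obtain ⟨A, hA⟩ := exists_descend hF hι ((δ⁻¹ : Fˣ).1 • H) (by
      rw [map_smul_fr, hHσ, hε, smul_smul, Units.val_inv_eq_inv_val, map_inv₀, hδ]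
      congr 1
      have : ε ≠ 0 := fun h0 => by rw [h0, zero_mul] at hε2; exact zero_ne_one hε2
      field_simp)
    refine ⟨A, fun h0 => ?_, ?_, k.1, (k⁻¹).1, u, δ, Units.mul_inv k, Units.inv_mul k, hgk, ?_⟩
    · have e := congrArg Matrix.det hA
      rw [show A.map ι = ι.mapMatrix A from rfl, ← RingHom.map_det, h0, map_zero, det_smul] at e
      exact mul_ne_zero (pow_ne_zero _ (Units.ne_zero _)) hHdet e.symm
    · rw [transpose_map, hA, transpose_smul, hε, smul_comm]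
    · rw [hA, smul_smul, Units.mul_inv, one_smul]
  rcases mul_self_eq_one_iff.mp hε2 with he | he
  · obtain ⟨A, hA, hAt, hs⟩ := mk 1 (by rw [Units.val_one, map_one, he, mul_one])
    refine ⟨A, hA, Or.inl (Matrix.map_injective ι.injective ?_), hs⟩
    show Aᵀ.map ι = A.map ι
    rw [hAt, he, one_smul]
  · obtain ⟨δ, hδ0, hδ⟩ := exists_skew hF
    obtain ⟨A, hA, hAt, hs⟩ := mk (Units.mk0 δ hδ0) (by
      rw [Units.val_mk0, he, neg_one_mul, fr_eq_frob]
      exact eq_neg_of_add_eq_zero_right hδ)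
    refine ⟨A, hA, Or.inr (Matrix.map_injective ι.injective ?_), hs⟩
    show Aᵀ.map ι = (-A).map ι
    rw [hAt, he, neg_one_smul]
    ext i j; simp

/-- Symmetric and skew matrices over the subfield give involutory graph automorphisms. -/
theorem exists_of_form [Fintype F₀] (hι : ∀ y, fr hF y = y ↔ y ∈ ι.range) (B : Matrix κ κ F₀) (hB : B.det ≠ 0)
    (hs : Bᵀ = B ∨ Bᵀ = -B) (hc : Fintype.card κ = n) :
    ∃ g : ↥(GS hF n), (∃ c : Fˣ, g.1.1 * g.1.1.map (fr hF) = (c : F) • 1) ∧ Std hF ι g.1 B := by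
  classical
  obtain ⟨B₁, hr, hd, hsym, hskew⟩ := PSLnGraph.exists_GL B hB hc
  obtain ⟨ε, δ, hε, hδ, hB₁⟩ : ∃ (ε : F₀) (δ : Fˣ), ε * ε = 1 ∧ fr hF (δ : F) = ι ε * δ ∧ B₁.1ᵀ = ε • B₁.1 := by
    rcases hs with h | h
    · exact ⟨1, 1, one_mul 1, by rw [Units.val_one, map_one, map_one, one_mul], by rw [one_smul, hsym h]⟩
    · obtain ⟨δ, hδ0, hδ⟩ := exists_skew hF
      exact ⟨-1, Units.mk0 δ hδ0, neg_one_mul (-1 : F₀) |>.trans (neg_neg 1), by
        rw [Units.val_mk0, map_neg, map_one, neg_one_mul]; exact eq_neg_of_add_eq_zero_right hδ,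
        by rw [neg_one_smul, hskew h]⟩
  let H : GL (Fin n) F := scal δ * GeneralLinearGroup.map ι B₁
  have hH : H.1 = (δ : F) • B₁.1.map ι := scal_mul_val δ _
  obtain ⟨k, hk⟩ := PSLn.exists_hermitian_factor (fr hF) (orderOf_fr hF) H (by
    rw [hH, transpose_smul, map_smul_fr, ← transpose_map, hB₁]
    ext i j
    simp only [Matrix.smul_apply, Matrix.map_apply, smul_eq_mul, map_mul, hδ]
    rw [(hι _).mpr ⟨B₁.1 i j, rfl⟩, (hι _).mpr ⟨ε, rfl⟩]
    have he : ι ε * ι ε = 1 := by rw [← map_mul, hε, map_one]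
    linear_combination ((δ : F) * ι (B₁.1 i j)) * he)
  let K : GL (Fin n) F := ⟨(k.1.map (fr hF))ᵀ, ((k⁻¹).1.map (fr hF))ᵀ,
    by rw [← transpose_mul, ← Matrix.map_mul, Units.inv_mul, Matrix.map_one _ (map_zero _) (map_one _), transpose_one],
    by rw [← transpose_mul, ← Matrix.map_mul, Units.mul_inv, Matrix.map_one _ (map_zero _) (map_one _), transpose_one]⟩
  let σK : GL (Fin n) F := GeneralLinearGroup.map (fr hF : F ≃+* F).toRingHom K
  let g₀ : GL (Fin n) F := K * σK⁻¹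
  have hKK : (K.1.map (fr hF))ᵀ * K.1 = (δ : F) • B₁.1.map ι := by
    rw [← hH, hk]
    show (((k.1.map (fr hF))ᵀ).map (fr hF))ᵀ * (k.1.map (fr hF))ᵀ = _
    rw [transpose_map, transpose_transpose, map_map_fr]
  have hσK : σK.1 = K.1.map (fr hF) := rfl
  have hσKi : (σK⁻¹).1.map (fr hF) = (K⁻¹).1 := by
    show (GeneralLinearGroup.map (fr hF : F ≃+* F).toRingHom K)⁻¹.1.map (fr hF) = _
    rw [← map_inv]
    exact map_map_fr hF _
  have hmem : g₀ ∈ GS hF n := by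
    refine ⟨Units.map (ι : F₀ →* F) ⟨ε, ε, hε, hε⟩, ?_⟩
    have hH2 : (K.1.map (fr hF))ᵀ * K.1 = ι ε • (K.1ᵀ * K.1.map (fr hF)) := by
      have e := congrArg Matrix.transpose hKK
      have eB : (B₁.1.map ι)ᵀ = ι ε • B₁.1.map ι := by rw [← transpose_map, hB₁]; ext a b; simp
      rw [transpose_mul, transpose_transpose, transpose_smul, eB] at e
      rw [hKK, show K.1ᵀ * K.1.map (fr hF) = _ from e]
      ext i j
      simp only [Matrix.smul_apply, Matrix.map_apply, smul_eq_mul, map_mul]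
      have he : ι ε * ι ε = 1 := by rw [← map_mul, hε, map_one]
      linear_combination (-((δ : F) * ι (B₁.1 i j))) * he
    show ((K.1 * (σK⁻¹).1).map (fr hF))ᵀ * (K.1 * (σK⁻¹).1) = _
    rw [Matrix.map_mul, hσKi, transpose_mul, Matrix.mul_assoc, ← Matrix.mul_assoc (K.1.map (fr hF))ᵀ, hH2,
      Matrix.smul_mul, Matrix.mul_smul, Matrix.mul_assoc, ← hσK, Units.mul_inv, Matrix.mul_one, ← transpose_mul,
      Units.mul_inv, transpose_one]
    rfl
  refine ⟨⟨g₀, hmem⟩, ⟨1, ?_⟩, Std.rel hF hι (A := B₁.1) ⟨K.1, (K⁻¹).1, 1, δ, K.mul_inv, K.inv_mul, ?_, hKK⟩ hr⟩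
  · show (K.1 * (σK⁻¹).1) * (K.1 * (σK⁻¹).1).map (fr hF) = _
    rw [Matrix.map_mul, hσKi, ← hσK, Matrix.mul_assoc, ← Matrix.mul_assoc (σK⁻¹).1, Units.inv_mul, Matrix.one_mul,
      Units.mul_inv, Units.val_one, one_smul]
  · show (K.1 * (σK⁻¹).1) * K.1.map (fr hF) = _
    rw [← hσK, Matrix.mul_assoc, Units.inv_mul, Matrix.mul_one, Units.val_one, one_smul]

theorem entry_ne {α β : Type} {M : Matrix α β F} (h : M ≠ 0) : ∃ i j, M i j ≠ 0 := by
  by_contra hh
  push Not at hh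
  exact h (Matrix.ext hh)

/-- Two fixed bases of the same semilinear map differ by a matrix over the subfield and a scalar. -/
theorem transition (hι : ∀ y, fr hF y = y ↔ y ∈ ι.range) (hn : 0 < n) {g : GL (Fin n) F}
    {k : Matrix (Fin n) κ F} {k' : Matrix κ (Fin n) F} {u : Fˣ} (hk : k * k' = 1) (hk' : k' * k = 1)
    (hgk : g.1 * k.map (fr hF) = (u : F) • k)
    {K : Matrix (Fin n) μ' F} {K' : Matrix μ' (Fin n) F} {w : Fˣ} (hK : K * K' = 1) (hK' : K' * K = 1)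
    (hgK : g.1 * K.map (fr hF) = (w : F) • K) :
    ∃ (P : Matrix κ μ' F₀) (P' : Matrix μ' κ F₀) (t : Fˣ), P * P' = 1 ∧ P' * P = 1 ∧
      K = (t : F) • (k * P.map ι) := by
  haveI : Nonempty (Fin n) := ⟨⟨0, hn⟩⟩
  set Q := k' * K with hQ
  set Q' := K' * k with hQ'
  have hKQ : K = k * Q := by rw [hQ, ← Matrix.mul_assoc, hk, Matrix.one_mul]
  have hQQ : Q * Q' = 1 := by rw [hQ, hQ', Matrix.mul_assoc, ← Matrix.mul_assoc K, hK, Matrix.one_mul, hk']
  have hQQ' : Q' * Q = 1 := by rw [hQ, hQ', Matrix.mul_assoc, ← Matrix.mul_assoc k, hk, Matrix.one_mul, hK']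
  set ν : F := (u : F)⁻¹ * w with hνdef
  have hν : Q.map (fr hF) = ν • Q := by
    have e : (u : F) • (k * Q.map (fr hF)) = (w : F) • (k * Q) := by
      rw [← Matrix.smul_mul, ← hgk, Matrix.mul_assoc, ← Matrix.map_mul, ← hKQ, hgK]
    have e2 := congrArg (fun M => (u : F)⁻¹ • (k' * M)) e
    simp only [Matrix.mul_smul, smul_smul, inv_mul_cancel₀ u.ne_zero, one_smul, ← Matrix.mul_assoc, hk',
      Matrix.one_mul] at e2
    exact e2
  obtain ⟨i, j, hij⟩ := entry_ne (M := Q) fun h0 => by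
    rw [h0, Matrix.mul_zero] at hKQ
    rw [hKQ, Matrix.zero_mul] at hK
    exact zero_ne_one hK
  have hν' : fr hF (Q i j) = ν * Q i j := congrFun (congrFun hν i) j
  have hν0 : ν ≠ 0 := mul_ne_zero (inv_ne_zero u.ne_zero) w.ne_zero
  have hνQ' : Q'.map (fr hF) = ν⁻¹ • Q' := by
    have e := congrArg (fun M => M.map (fr hF)) hQQ'
    simp only [Matrix.map_mul, hν, Matrix.mul_smul, Matrix.map_one _ (map_zero (fr hF)) (map_one (fr hF))] at e
    have e2 := congrArg (fun M => ν⁻¹ • (M * Q')) e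
    simp only [Matrix.smul_mul, smul_smul, inv_mul_cancel₀ hν0, one_smul, Matrix.mul_assoc, hQQ, Matrix.mul_one,
      Matrix.one_mul] at e2
    exact e2
  obtain ⟨P, hP⟩ := exists_descend hF hι ((Q i j)⁻¹ • Q) (by
    rw [map_smul_fr, map_inv₀, hν', hν, smul_smul]
    congr 1
    field_simp)
  obtain ⟨P', hP'⟩ := exists_descend hF hι (Q i j • Q') (by
    rw [map_smul_fr, hν', hνQ', smul_smul]
    congr 1
    field_simp)
  refine ⟨P, P', Units.mk0 (Q i j) hij, Matrix.map_injective ι.injective ?_,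
    Matrix.map_injective ι.injective ?_, ?_⟩
  · show (P * P').map ι = (1 : Matrix κ κ F₀).map ι
    rw [Matrix.map_mul, hP, hP', Matrix.smul_mul, Matrix.mul_smul, smul_smul, inv_mul_cancel₀ hij, one_smul, hQQ,
      Matrix.map_one _ (map_zero ι) (map_one ι)]
  · show (P' * P).map ι = (1 : Matrix μ' μ' F₀).map ι
    rw [Matrix.map_mul, hP, hP', Matrix.smul_mul, Matrix.mul_smul, smul_smul, mul_inv_cancel₀ hij, one_smul, hQQ',
      Matrix.map_one _ (map_zero ι) (map_one ι)]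
  · rw [hP, Matrix.mul_smul, smul_smul, Units.val_mk0, mul_inv_cancel₀ hij, one_smul, ← hKQ]

/-- Comparing the hermitian forms of the two bases. -/
theorem forms_eq (hι : ∀ y, fr hF y = y ↔ y ∈ ι.range) (hn : 0 < n) {k : Matrix (Fin n) κ F} {δ δ' : Fˣ}
    {A : Matrix κ κ F₀} {B : Matrix μ' μ' F₀} (hB : B.det ≠ 0) [Nonempty μ'] {P : Matrix κ μ' F₀} {t : Fˣ}
    (hkk : (k.map (fr hF))ᵀ * k = (δ : F) • A.map ι)
    (hKK : (((t : F) • (k * P.map ι)).map (fr hF))ᵀ * ((t : F) • (k * P.map ι)) = (δ' : F) • B.map ι) :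
    ∃ s : F₀ˣ, (s : F₀) • (Pᵀ * A * P) = B := by
  rw [map_smul_fr, transpose_smul, Matrix.map_mul, map_fr_ι hF hι, transpose_mul, Matrix.smul_mul, Matrix.mul_smul,
    smul_smul, Matrix.mul_assoc, ← Matrix.mul_assoc (k.map (fr hF))ᵀ, hkk, Matrix.smul_mul, Matrix.mul_smul,
    smul_smul, ← transpose_map, ← Matrix.map_mul, ← Matrix.map_mul, ← Matrix.mul_assoc] at hKK
  set a : F := fr hF (t : F) * t * δ
  obtain ⟨i, j, hij⟩ := entry_ne (M := B.map ι) fun h0 => by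
    apply hB
    rw [show B = 0 from Matrix.map_injective ι.injective (h0.trans (Matrix.map_zero _ (map_zero ι)).symm), det_zero]
  have e : a * ι ((Pᵀ * A * P) i j) = (δ' : F) * ι (B i j) := congrFun (congrFun hKK i) j
  have ha : a ≠ 0 := mul_ne_zero (mul_ne_zero (by simp) t.ne_zero) δ.ne_zero
  have hB0 : B i j ≠ 0 := fun h0 => hij (by simp [h0])
  have hM0 : (Pᵀ * A * P) i j ≠ 0 := fun h0 => by
    rw [h0, map_zero, mul_zero] at e
    exact mul_ne_zero δ'.ne_zero (by simpa using hB0) e.symm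
  refine ⟨Units.mk0 (B i j / (Pᵀ * A * P) i j) (div_ne_zero hB0 hM0), Matrix.map_injective ι.injective ?_⟩
  ext a' b'
  have e' : a * ι ((Pᵀ * A * P) a' b') = (δ' : F) * ι (B a' b') := congrFun (congrFun hKK a') b'
  simp only [Units.val_mk0, Matrix.map_apply, Matrix.smul_apply, smul_eq_mul, map_mul, map_div₀]
  have hM0' : ι ((Pᵀ * A * P) i j) ≠ 0 := by simpa using hM0
  rw [div_mul_eq_mul_div, div_eq_iff hM0']
  apply mul_left_cancel₀ δ'.ne_zero
  apply mul_left_cancel₀ ha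
  linear_combination (δ' : F) * ι (B i j) * e' - (δ' : F) * ι (B a' b') * e

theorem conjUnder_iff (hι : ∀ y, fr hF y = y ↔ y ∈ ι.range) (hn : 3 ≤ n) (h32 : ¬ (n = 3 ∧ q = 2))
    {g h : ↥(GS hF n)} {A : Matrix κ κ F₀} {B : Matrix μ' μ' F₀} (hB : B.det ≠ 0) (hg : Std hF ι g.1 A)
    (hh : Std hF ι h.1 B) :
    Cfsg.IsConjUnder (Cfsg.inndiagPSU n F q) (γ hF g) (γ hF h) ↔ Rel A B := by
  rw [inndiag_eq hF (by omega)]
  constructor
  · rintro ⟨_, ⟨x, rfl⟩, e⟩
    rw [conj_γ, γ_eq_iff hF hn h32, val_conj] at e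
    obtain ⟨v, hv⟩ := e
    obtain ⟨k, k', u, δ, hk, hk', hgk, hkk⟩ := hg
    obtain ⟨K, K', w, δ', hK, hK', hgK, hKK⟩ := hh
    obtain ⟨c, hc⟩ := x.2
    have hxk : h.1.1 * (x.1.1 * k).map (fr hF) = ((v * u : Fˣ) : F) • (x.1.1 * k) := by
      rw [hv, Matrix.map_mul, Matrix.smul_mul, Matrix.mul_assoc (x.1.1 * g.1.1),
        ← Matrix.mul_assoc ((x.1⁻¹).1.map _), ← Matrix.map_mul, Units.inv_mul,
        Matrix.map_one _ (map_zero _) (map_one _), Matrix.one_mul, Matrix.mul_assoc, hgk, Matrix.mul_smul,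
        smul_smul, Units.val_mul]
    obtain ⟨P, P', t, hP, hP', rfl⟩ := transition hF hι (by omega) (k' := k' * (x.1⁻¹).1)
      (by rw [Matrix.mul_assoc, ← Matrix.mul_assoc k, hk, Matrix.one_mul, Units.mul_inv])
      (by rw [Matrix.mul_assoc, ← Matrix.mul_assoc (x.1⁻¹).1, Units.inv_mul, Matrix.one_mul, hk']) hxk hK hK' hgK
    have hxkk : ((x.1.1 * k).map (fr hF))ᵀ * (x.1.1 * k) = ((c * δ : Fˣ) : F) • A.map ι := by
      rw [Matrix.map_mul, transpose_mul, Matrix.mul_assoc, ← Matrix.mul_assoc (x.1.1.map _)ᵀ, hc, Matrix.smul_mul,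
        Matrix.one_mul, Matrix.mul_smul, hkk, smul_smul, Units.val_mul]
    haveI : Nonempty μ' := by
      by_contra hμ
      rw [not_nonempty_iff] at hμ
      haveI : Nonempty (Fin n) := ⟨⟨0, by omega⟩⟩
      exact zero_ne_one (α := Matrix (Fin n) (Fin n) F)
        (by rw [← hK, show K' = 0 from Subsingleton.elim _ _, Matrix.mul_zero])
    obtain ⟨s, hs⟩ := forms_eq hF hι (by omega) hB hxkk hKK
    exact ⟨P, P', s, hP, hP', hs⟩
  · intro hr
    obtain ⟨k, k', u, δ, hk, hk', hgk, hkk⟩ := Std.rel hF hι hg hr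
    obtain ⟨K, K', w, δ', hK, hK', hgK, hKK⟩ := hh
    let x₀ : GL (Fin n) F := ⟨K * k', k * K',
      by rw [Matrix.mul_assoc, ← Matrix.mul_assoc k', hk', Matrix.one_mul, hK],
      by rw [Matrix.mul_assoc, ← Matrix.mul_assoc K', hK', Matrix.one_mul, hk]⟩
    have hx : x₀ ∈ GS hF n := by
      refine ⟨δ' * δ⁻¹, ?_⟩
      show ((K * k').map (fr hF))ᵀ * (K * k') = _
      have h1 : (k'.map (fr hF))ᵀ * ((k.map (fr hF))ᵀ * k) * k' = 1 := by
        rw [← Matrix.mul_assoc, ← transpose_mul, ← Matrix.map_mul, hk, Matrix.map_one _ (map_zero _) (map_one _),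
          transpose_one, Matrix.one_mul, hk]
      rw [hkk, Matrix.mul_smul, Matrix.smul_mul] at h1
      rw [Matrix.map_mul, transpose_mul, Matrix.mul_assoc, ← Matrix.mul_assoc (K.map _)ᵀ, hKK, Matrix.smul_mul,
        Matrix.mul_smul, ← Matrix.mul_assoc, Units.val_mul, ← h1, smul_smul, mul_assoc, Units.inv_mul, mul_one]
    refine ⟨_, ⟨⟨x₀, hx⟩, rfl⟩, ?_⟩
    rw [conj_γ, γ_eq_iff hF hn h32, val_conj]
    refine ⟨w * u⁻¹, ?_⟩
    show h.1.1 = _ • (K * k' * g.1.1 * (k * K').map (fr hF))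
    have hh' : h.1.1 = (w : F) • (K * K'.map (fr hF)) := by
      rw [← Matrix.smul_mul, ← hgK, Matrix.mul_assoc, ← Matrix.map_mul, hK, Matrix.map_one _ (map_zero _) (map_one _),
        Matrix.mul_one]
    have hg' : k' * g.1.1 * k.map (fr hF) = (u : F) • 1 := by
      rw [Matrix.mul_assoc, hgk, Matrix.mul_smul, hk']
    rw [hh', Matrix.map_mul, show K * k' * g.1.1 * (k.map (fr hF) * K'.map (fr hF)) =
        K * (k' * g.1.1 * k.map (fr hF)) * K'.map (fr hF) by simp only [Matrix.mul_assoc], hg', Matrix.mul_smul,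
      Matrix.mul_one, Matrix.smul_mul, smul_smul, Units.val_mul, mul_assoc, Units.inv_mul, mul_one]

/-- The centralizing map from similarities over the subfield. -/
theorem centralizer_equiv (hι : ∀ y, fr hF y = y ↔ y ∈ ι.range) (hn : 3 ≤ n) (h32 : ¬ (n = 3 ∧ q = 2))
    {g : ↥(GS hF n)} {A : Matrix κ κ F₀} (hA : A.det ≠ 0) (hg : Std hF ι g.1 A) :
    Nonempty (↥(Cfsg.inndiagPSU n F q ⊓ Subgroup.centralizer {γ hF g}) ≃* Cfsg.projQuot (SimGrp A)) := by
  classical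
  obtain ⟨k, k', u, δ, hk, hk', hgk, hkk⟩ := hg
  haveI : Nonempty κ := by
    by_contra hμ
    rw [not_nonempty_iff] at hμ
    haveI : Nonempty (Fin n) := ⟨⟨0, by omega⟩⟩
    exact zero_ne_one (α := Matrix (Fin n) (Fin n) F)
      (by rw [← hk, show k' = 0 from Subsingleton.elim _ _, Matrix.mul_zero])
  have hk1 : (k'.map (fr hF))ᵀ * ((δ : F) • A.map ι) * k' = 1 := by
    rw [← hkk, ← Matrix.mul_assoc, ← transpose_mul, ← Matrix.map_mul, hk, Matrix.map_one _ (map_zero _) (map_one _),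
      transpose_one, Matrix.one_mul, hk]
  let ψ : GL κ F₀ →* GL (Fin n) F :=
    ((PSLnGraph.glConj k' k hk' hk).toMonoidHom).comp (GeneralLinearGroup.map ι)
  have hψ : ∀ P : GL κ F₀, (ψ P).1 = k * P.1.map ι * k' := fun P => rfl
  have hψm : ∀ P : ↥(SimGrp A), ψ P.1 ∈ GS hF n := by
    intro P
    obtain ⟨c, hc⟩ := P.2
    refine ⟨Units.map (ι : F₀ →* F) c, ?_⟩
    rw [hψ, Matrix.map_mul, Matrix.map_mul, map_fr_ι hF hι, transpose_mul, transpose_mul]
    calc _ = (k'.map (fr hF))ᵀ * ((P.1.1.map ι)ᵀ * ((k.map (fr hF))ᵀ * k) * P.1.1.map ι) * k' := by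
          simp only [Matrix.mul_assoc]
      _ = _ := by
          rw [hkk, Matrix.mul_smul, Matrix.smul_mul, ← transpose_map (M := P.1.1) (f := ι), ← Matrix.map_mul, ← Matrix.map_mul, hc,
            show ((c : F₀) • A).map ι = ι (c : F₀) • A.map ι by ext i j; simp, smul_comm, Matrix.mul_smul,
            Matrix.smul_mul, hk1]
          rfl
  let φ : ↥(SimGrp A) →* MulAut (Cfsg.PSU n F q) :=
    (conjP hF).comp ((ψ.comp (SimGrp A).subtype).codRestrict (GS hF n) hψm)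
  have hr : φ.range = Cfsg.inndiagPSU n F q ⊓ Subgroup.centralizer {γ hF g} := by
    apply le_antisymm
    · rintro _ ⟨P, rfl⟩
      refine Subgroup.mem_inf.mpr ⟨by rw [inndiag_eq hF (by omega)]; exact ⟨_, rfl⟩, ?_⟩
      rw [Subgroup.mem_centralizer_singleton_iff]
      show conjP hF _ * γ hF g = γ hF g * conjP hF _
      rw [← mul_inv_eq_iff_eq_mul, conj_γ, γ_eq_iff hF hn h32, val_conj]
      refine ⟨1, ?_⟩
      show (ψ P.1).1 * g.1.1 * ((ψ P.1)⁻¹).1.map (fr hF) = _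
      rw [← map_inv, hψ, hψ, Matrix.map_mul, Matrix.map_mul, map_fr_ι hF hι, Units.val_one, one_smul]
      have e : k' * g.1.1 * k.map (fr hF) = (u : F) • 1 := by rw [Matrix.mul_assoc, hgk, Matrix.mul_smul, hk']
      calc _ = k * P.1.1.map ι * (k' * g.1.1 * k.map (fr hF)) * (P.1⁻¹).1.map ι * k'.map (fr hF) := by
            simp only [Matrix.mul_assoc]
        _ = (u : F) • (k * ((P.1.1 * (P.1⁻¹).1).map ι) * k'.map (fr hF)) := by
            rw [e, Matrix.map_mul]; simp only [Matrix.mul_smul, Matrix.smul_mul, Matrix.mul_one, Matrix.mul_assoc]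
        _ = _ := by
            rw [Units.mul_inv, Matrix.map_one _ (map_zero ι) (map_one ι), Matrix.mul_one, ← Matrix.smul_mul, ← hgk,
              Matrix.mul_assoc, ← Matrix.map_mul, hk, Matrix.map_one _ (map_zero _) (map_one _), Matrix.mul_one]
    · intro a ha
      obtain ⟨ha, hc⟩ := Subgroup.mem_inf.mp ha
      rw [inndiag_eq hF (by omega)] at ha
      obtain ⟨x, rfl⟩ := ha
      rw [Subgroup.mem_centralizer_singleton_iff, ← mul_inv_eq_iff_eq_mul, conj_γ, γ_eq_iff hF hn h32, val_conj] at hc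
      obtain ⟨v, hv⟩ := hc
      obtain ⟨c, hxc⟩ := x.2
      have hxk : g.1.1 * (x.1.1 * k).map (fr hF) = ((v⁻¹ * u : Fˣ) : F) • (x.1.1 * k) := by
        have hv' : g.1.1 = (v⁻¹ : Fˣ).1 • (x.1.1 * g.1.1 * (x.1⁻¹).1.map (fr hF)) := by
          rw [hv, smul_smul, Units.inv_mul, one_smul]
        conv_lhs => rw [hv', Matrix.map_mul, Matrix.smul_mul, Matrix.mul_assoc (x.1.1 * g.1.1),
          ← Matrix.mul_assoc ((x.1⁻¹).1.map _), ← Matrix.map_mul, Units.inv_mul,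
          Matrix.map_one _ (map_zero _) (map_one _), Matrix.one_mul, Matrix.mul_assoc, hgk, Matrix.mul_smul,
          smul_smul]
        rw [Units.val_mul]
      obtain ⟨P, P', t, hP, hP', hx⟩ := transition hF hι (by omega) hk hk' hgk (K' := k' * (x.1⁻¹).1)
        (by rw [Matrix.mul_assoc, ← Matrix.mul_assoc k, hk, Matrix.one_mul, Units.mul_inv])
        (by rw [Matrix.mul_assoc, ← Matrix.mul_assoc (x.1⁻¹).1, Units.inv_mul, Matrix.one_mul, hk']) hxk
      have hxkk : (((t : F) • (k * P.map ι)).map (fr hF))ᵀ * ((t : F) • (k * P.map ι)) =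
          ((c * δ : Fˣ) : F) • A.map ι := by
        rw [← hx, Matrix.map_mul, transpose_mul, Matrix.mul_assoc, ← Matrix.mul_assoc (x.1.1.map _)ᵀ, hxc,
          Matrix.smul_mul, Matrix.one_mul, Matrix.mul_smul, hkk, smul_smul, Units.val_mul]
      obtain ⟨s, hs⟩ := forms_eq hF hι (by omega) hA hkk hxkk
      refine ⟨⟨⟨P, P', hP, hP'⟩, s⁻¹, ?_⟩, ?_⟩
      · show Pᵀ * A * P = _
        conv_rhs => rw [← hs]
        rw [smul_smul, Units.inv_mul, one_smul]
      · show conjP hF ⟨ψ ⟨P, P', hP, hP'⟩, _⟩ = conjP hF x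
        rw [conjP_eq_iff hF hn h32]
        refine ⟨t⁻¹, ?_⟩
        show k * P.map ι * k' = _
        have hx' : x.1.1 = (t : F) • (k * P.map ι * k') := by
          rw [← Matrix.smul_mul, ← hx, Matrix.mul_assoc, hk, Matrix.mul_one]
        rw [hx', smul_smul, Units.inv_mul, one_smul]
  have hker : φ.ker = (Cfsg.Geo.scalars κ F₀).subgroupOf (SimGrp A) := by
    ext P
    rw [MonoidHom.mem_ker, Subgroup.mem_subgroupOf, Cfsg.Geo.mem_scalars_iff]
    show conjP hF _ = 1 ↔ _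
    rw [← (conjP hF).map_one, conjP_eq_iff hF hn h32]
    constructor
    · rintro ⟨v, hv⟩
      change k * P.1.1.map ι * k' = (v : F) • (1 : Matrix (Fin n) (Fin n) F) at hv
      have hv2 : P.1.1.map ι = (v : F) • (1 : Matrix κ κ F) := by
        have e := congrArg (fun M => k' * M * k) hv
        simp only [← Matrix.mul_assoc, hk', Matrix.one_mul] at e
        rw [Matrix.mul_assoc, hk', Matrix.mul_one, Matrix.mul_smul, Matrix.mul_one, Matrix.smul_mul, hk'] at e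
        exact e
      obtain ⟨i⟩ := ‹Nonempty κ›
      have hvi : ι (P.1.1 i i) = v := by
        have := congrFun (congrFun hv2 i) i
        simpa using this
      have hne : P.1.1 i i ≠ 0 := fun h0 => v.ne_zero (by rw [← hvi, h0, map_zero])
      refine ⟨Units.mk0 _ hne, Matrix.map_injective ι.injective ?_⟩
      show P.1.1.map ι = _
      rw [hv2, ← hvi]
      ext a b
      by_cases hab : a = b <;> simp [hab, Matrix.one_apply]
    · rintro ⟨c, hc⟩
      refine ⟨Units.map (ι : F₀ →* F) c, ?_⟩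
      show k * P.1.1.map ι * k' = ι (c : F₀) • (1 : Matrix (Fin n) (Fin n) F)
      rw [hc, show ((c : F₀) • (1 : Matrix κ κ F₀)).map ι = ι (c : F₀) • (1 : Matrix κ κ F) by
        ext a b; by_cases hab : a = b <;> simp [hab, Matrix.one_apply], Matrix.mul_smul, Matrix.mul_one,
        Matrix.smul_mul, hk]
  exact ⟨((MulEquiv.subgroupCongr hr).symm.trans
    (QuotientGroup.quotientKerEquivRange _).symm).trans (QuotientGroup.quotientMulEquivOfEq hker)⟩

end models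

end CfsgLib.PSUGraph
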